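import Cfsg.Agent.H653.Sieve.Prime
import Cfsg.Agent.Blocks.OrbitSum
import Cfsg.Agent.Characters.GaloisBasic
import Cfsg.Agent.Characters.ClassMul
import Cfsg.Agent.Characters.Central

/-!
# A Sylow subgroup of prime order: the character of the local group and the central character (helper606)

`exists_theta` : `χ` of degree prime to `p` is over some `θ ∈ Irr K`, `C(P) = P × K`; the residue of `χ(1)` and a value of
`part θ χ` which is not divisible by `p`.

`central_congr` : `n * ω_χ(t) ≡ |K : C_K(t)| θ(t)` modulo `p`, `n = θ(1)`.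
-/

set_option autoImplicit false
set_option linter.unusedSectionVars false

open Cfsg Subgroup
open scoped ComplexConjugate

namespace Cfsg.Agent.H606.OreM.Block

open Cfsg.Agent.Characters.Core
open Cfsg.Agent.SmallSimple.ThetaSetup Cfsg.Agent.SmallSimple.ThetaOrtho
open Cfsg.Agent.SmallSimple.TheoremC Cfsg.Agent.SmallSimple.TheoremCCor
open Cfsg.Agent.SmallSimple.PrimeDual Cfsg.Agent.SmallSimple.ThetaCount
open Cfsg.Agent.H653.Sieve
open Cfsg.Agent.SmallSimple

universe u

variable {G : Type u} [Group G] [Finite G] {p : ℕ} [hp : Fact p.Prime] {P : Sylow p G} {K : Subgroup G}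

/-- a natural number which is `p` times an algebraic integer is divisible by `p` -/
theorem dvd_of_algInt {k : ℤ} {y : AlgInt} (h : (k : ℂ) = (p : ℂ) * y) : (p : ℤ) ∣ k := by
  have hp0 : (p : ℂ) ≠ 0 := Nat.cast_ne_zero.2 hp.out.ne_zero
  have h1 : ((k : ℚ) / (p : ℚ) : ℚ) = ((k : ℚ) / (p : ℚ)) := rfl
  have h2 : (((k : ℚ) / (p : ℚ) : ℚ) : ℂ) = y := by
    push_cast
    rw [h]
    field_simp
  have h3 : IsIntegral ℤ ((k : ℚ) / (p : ℚ) : ℚ) := by
    have h4 : IsIntegral ℤ (((k : ℚ) / (p : ℚ) : ℚ) : ℂ) := by rw [h2]; exact y.2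
    exact (isIntegral_algebraMap_iff (algebraMap ℚ ℂ).injective).1 h4
  obtain ⟨z, hz⟩ := IsIntegrallyClosed.isIntegral_iff.1 h3
  refine ⟨z, ?_⟩
  have hp0' : (p : ℚ) ≠ 0 := Nat.cast_ne_zero.2 hp.out.ne_zero
  have h5 : (z : ℚ) = (k : ℚ) / p := hz
  rw [eq_div_iff hp0'] at h5
  have h6 : (z * p : ℤ) = k := by exact_mod_cast h5
  rw [← h6]; ring

theorem exists_theta [Fintype (IrrCharacter G)] (hK : IsComp p (P : Subgroup G) K) (hP : Nat.card P = p) {e t : ℕ}
    (he : (centralizer ((P : Subgroup G) : Set G)).relIndex (normalizer ((P : Subgroup G) : Set G)) = e)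
    (ht : e * t = p - 1) (χ : IrrCharacter G) (hχ : ¬ p ∣ charDegree (χ : G → ℂ)) :
    ∃ (θ : IrrCharacter K) (m n : ℕ), m = (orb P K (θ : K → ℂ)).card ∧ (θ : K → ℂ) 1 = n ∧ 0 < m ∧ 0 < n ∧ m ∣ e ∧
      n ∣ Nat.card K ∧
      ((p : ℤ) ∣ (charDegree (χ : G → ℂ) : ℤ) - m * n ∨ (p : ℤ) ∣ (charDegree (χ : G → ℂ) : ℤ) + m * n ∨
        (p : ℤ) ∣ (charDegree (χ : G → ℂ) : ℤ) - e * n ∨ (p : ℤ) ∣ (charDegree (χ : G → ℂ) : ℤ) + e * n) ∧
      ∃ x : P, x ≠ 1 ∧ ∀ y : AlgInt, part (θ : K → ℂ) (χ : G → ℂ) x ≠ (p : ℂ) * y := by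
  classical
  have hPf := Fintype.ofFinite (P : Subgroup G)
  have hp1 := hp.out.one_lt
  -- the degree modulo `p`
  have hdeg : ∀ w : ℤ, (e : ℂ) * w = csum (P : Subgroup G) (χ : G → ℂ) →
      (p : ℤ) ∣ (charDegree (χ : G → ℂ) : ℤ) + e * w := by
    intro w hw
    obtain ⟨m, hm⟩ := SmallSimple.TheoremBCor.exists_sum_eq (isIrr_isCharacter χ.2) (P : Subgroup G)
    rw [csum_eq, hm, deg_cast] at hw
    refine ⟨m, ?_⟩
    have h2 : (((charDegree (χ : G → ℂ) : ℤ) + e * w : ℤ) : ℂ) = ((p * m : ℤ) : ℂ) := by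
      have h3 : (Nat.card (P : Subgroup G) : ℂ) = p := by
        have : Nat.card (P : Subgroup G) = p := hP
        exact_mod_cast this
      rw [h3] at hw
      have h4 : ((deg χ : ℕ) : ℂ) = (charDegree (χ : G → ℂ) : ℂ) := rfl
      rw [h4] at hw
      push_cast
      linear_combination hw
    exact_mod_cast h2
  have hv : ∃ g : G, p ∣ orderOf g ∧ (χ : G → ℂ) g ≠ 0 := by
    by_contra hv
    push Not at hv
    have h0 : csum (P : Subgroup G) (χ : G → ℂ) = 0 := by
      rw [csum_eq_erase, Finset.sum_eq_zero]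
      intro x hx
      apply hv
      have hx1 : (x : G) ≠ 1 := fun e => (Finset.mem_erase.1 hx).1 (Subtype.ext e)
      rw [Blocks.CyclicOrtho.orderOf_eq P hP x.2 hx1]
    have h1 := hdeg 0 (by rw [h0]; simp)
    rw [mul_zero, add_zero] at h1
    exact hχ (by exact_mod_cast h1)
  obtain ⟨θ, hθ⟩ := exists_mem_Over hK hP (χ := χ) hv
  set m := (orb P K (θ : K → ℂ)).card with hm
  obtain ⟨n, hn0, hn1⟩ := isIrr_apply_one θ.2
  have hn : (θ : K → ℂ) 1 = n := hn1
  have hdegθ : charDegree (θ : K → ℂ) = n := by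
    unfold charDegree
    rw [hn]; simp
  have hcm := card_stabAct_mul_card_orb hK hP θ.2
  rw [he, ← hm] at hcm
  set eθ := Nat.card (stabAct hK (θ : K → ℂ)) with heθ
  have het : eθ * (m * t) = p - 1 := by rw [← mul_assoc, hcm, ht]
  obtain ⟨NE, X, ε, d, S, hB, -, hNE, hX, hε, hd, hval, hvalX, -, -, -⟩ := theoremC hK hP θ.2 heθ.symm het
  have hm0 : 0 < m := by
    rcases Nat.eq_zero_or_pos m with h | h
    · rw [h, zero_mul, mul_zero] at het
      omega
    · exact h
  have he0 : 0 < eθ := by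
    rcases Nat.eq_zero_or_pos eθ with h | h
    · rw [h, zero_mul] at het
      omega
    · exact h
  have hnK : n ∣ Nat.card K := by
    rw [← hdegθ]
    exact Blocks.Knorr.charDegree_dvd θ.2
  have hpp : (p : ℤ) = e * t + 1 := by
    have h3 : p = e * t + 1 := by omega
    exact_mod_cast h3
  have hcsum : csum (P : Subgroup G) (χ : G → ℂ) =
      ∑ x ∈ (Finset.univ : Finset (P : Subgroup G)).erase 1, (χ : G → ℂ) x := csum_eq_erase _ _
  have hcard : ((Finset.univ : Finset (P : Subgroup G)).erase 1).card = p - 1 := by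
    rw [Finset.card_erase_of_mem (Finset.mem_univ _), Finset.card_univ, ← Nat.card_eq_fintype_card]
    exact congrArg (· - 1) hP
  rcases (hB χ).1 hθ with h | h
  · -- nonexceptional
    have hw : (e : ℂ) * ((ε χ * (t * m * n) : ℤ) : ℂ) = csum (P : Subgroup G) (χ : G → ℂ) := by
      rw [hcsum, Finset.sum_congr rfl (g := fun _ => (ε χ : ℂ) * (m * n))]
      · rw [Finset.sum_const, hcard, nsmul_eq_mul, ← ht]
        push_cast
        ring
      · intro x hx
        have hx1 : x ≠ 1 := (Finset.mem_erase.1 hx).1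
        have h2 := apply_of_const hK hP θ.2 hθ (hval χ h) hx1 (1 : K)
        rw [sum_orb_one hK, ← hm, hn] at h2
        simpa using h2
    have h5 := hdeg _ hw
    refine ⟨θ, m, n, rfl, hn, hm0, hn0, ⟨eθ, by rw [← hcm, mul_comm]⟩, hnK, ?_, ?_⟩
    · rcases hε χ h with h6 | h6
      · left
        rw [h6] at h5
        have h7 : (charDegree (χ : G → ℂ) : ℤ) - m * n =
            ((charDegree (χ : G → ℂ) : ℤ) + e * (1 * (t * m * n))) - p * (m * n) := by rw [hpp]; ring
        rw [h7]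
        exact dvd_sub h5 (dvd_mul_right _ _)
      · right; left
        rw [h6] at h5
        have h7 : (charDegree (χ : G → ℂ) : ℤ) + m * n =
            ((charDegree (χ : G → ℂ) : ℤ) + e * (-1 * (t * m * n))) + p * (m * n) := by rw [hpp]; ring
        rw [h7]
        exact dvd_add h5 (dvd_mul_right _ _)
    · obtain ⟨x, hx⟩ : ∃ x : P, x ≠ 1 := by
        obtain ⟨x, hx, hx1⟩ := exists_ne_one (P := (P : Subgroup G)) hP
        exact ⟨⟨x, hx⟩, fun h => hx1 (congrArg Subtype.val h)⟩
      refine ⟨x, hx, fun y hy => ?_⟩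
      rw [hval χ h x hx] at hy
      have h8 := dvd_of_algInt hy
      rcases hε χ h with h6 | h6
      · rw [h6] at h8
        have := Int.eq_one_of_dvd_one (by positivity) h8
        have h9 : p = 1 := by exact_mod_cast this
        omega
      · rw [h6] at h8
        have := Int.eq_one_of_dvd_one (by positivity) ((dvd_neg).1 h8)
        have h9 : p = 1 := by exact_mod_cast this
        omega
  · -- exceptional
    obtain ⟨hSc, hS1, -, hSv⟩ := hvalX χ h
    -- the sum of a part
    have hpart : ∑ x ∈ (Finset.univ : Finset (P : Subgroup G)).erase 1, part (θ : K → ℂ) (χ : G → ℂ) x =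
        -(d : ℂ) * eθ := by
      have h2 := SmallSimple.TheoremBCor.sum_exc_off (f := fun x : (P : Subgroup G) => part (θ : K → ℂ) (χ : G → ℂ) x)
        (d := (d : ℂ)) hS1 hSv
      rw [hSc] at h2
      rw [← Finset.add_sum_erase _ _ (Finset.mem_univ (1 : (P : Subgroup G)))] at h2
      linear_combination h2
    have horb : ∀ θ' ∈ orb P K (θ : K → ℂ),
        ∑ x ∈ (Finset.univ : Finset (P : Subgroup G)).erase 1, part (θ' : K → ℂ) (χ : G → ℂ) x = -(d : ℂ) * eθ := by
      intro θ' hθ'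
      obtain ⟨g, hg, hgθ⟩ := mem_orb.1 hθ'
      rw [← hpart, ← hgθ]
      have h3 : ∀ x : (P : Subgroup G), part (tw (θ : K → ℂ) g) (χ : G → ℂ) x =
          part (θ : K → ℂ) (χ : G → ℂ) (cP hg x : (P : Subgroup G)) := by
        intro x
        rw [← part_conj hK _ (isIrr_isClassFunction χ.2) hg, coe_cP]
      rw [Finset.sum_congr rfl fun x _ => h3 x]
      refine Finset.sum_bij (fun x _ => cP hg x) ?_ ?_ ?_ ?_
      · intro x hx
        rw [Finset.mem_erase] at hx ⊢
        refine ⟨fun h4 => hx.1 ?_, Finset.mem_univ _⟩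
        exact (MulEquiv.map_eq_one_iff (cP hg)).1 h4
      · intro x _ y _ h4
        exact (cP hg).injective h4
      · intro y hy
        rw [Finset.mem_erase] at hy
        refine ⟨(cP hg).symm y, ?_, by simp⟩
        rw [Finset.mem_erase]
        refine ⟨fun h4 => hy.1 ?_, Finset.mem_univ _⟩
        have h5 := congrArg (cP hg) h4
        rwa [MulEquiv.apply_symm_apply, map_one] at h5
      · intro x _
        rfl
    have hw : (e : ℂ) * ((-d * n : ℤ) : ℂ) = csum (P : Subgroup G) (χ : G → ℂ) := by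
      rw [hcsum]
      have h2 : ∀ x ∈ (Finset.univ : Finset (P : Subgroup G)).erase 1, (χ : G → ℂ) x =
          ∑ θ' ∈ orb P K (θ : K → ℂ), part (θ' : K → ℂ) (χ : G → ℂ) x * n := by
        intro x hx
        have hx1 : x ≠ 1 := (Finset.mem_erase.1 hx).1
        have h3 := apply_mul_orb hK hP θ.2 hθ hx1 (1 : K)
        rw [Subgroup.coe_one, mul_one] at h3
        rw [h3]
        exact Finset.sum_congr rfl fun θ' h4 => by rw [orb_apply_one hK h4, hn]
      rw [Finset.sum_congr rfl h2, Finset.sum_comm]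
      have h3 : ∀ θ' ∈ orb P K (θ : K → ℂ),
          ∑ x ∈ (Finset.univ : Finset (P : Subgroup G)).erase 1, part (θ' : K → ℂ) (χ : G → ℂ) x * (n : ℂ) =
            -(d : ℂ) * eθ * n := by
        intro θ' h4
        rw [← Finset.sum_mul, horb θ' h4]
      rw [Finset.sum_congr rfl h3, Finset.sum_const, ← hm, nsmul_eq_mul, ← hcm]
      push_cast
      ring
    have h5 := hdeg _ hw
    refine ⟨θ, m, n, rfl, hn, hm0, hn0, ⟨eθ, by rw [← hcm, mul_comm]⟩, hnK, ?_, ?_⟩
    · rcases hd with rfl | rfl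
      · right; right; left
        have h7 : (charDegree (χ : G → ℂ) : ℤ) - e * n = (charDegree (χ : G → ℂ) : ℤ) + e * (-1 * n) := by ring
        rw [h7]
        exact h5
      · right; right; right
        have h7 : (charDegree (χ : G → ℂ) : ℤ) + e * n = (charDegree (χ : G → ℂ) : ℤ) + e * (-(-1) * n) := by ring
        rw [h7]
        exact h5
    · by_contra hcon
      push Not at hcon
      choose y hy using hcon
      have h6 : ((-d * eθ : ℤ) : ℂ) = (p : ℂ) * ((∑ x ∈ (Finset.univ : Finset (P : Subgroup G)).erase 1,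
          (if hx : x ≠ 1 then y x hx else 0) : AlgInt) : ℂ) := by
        have h7 : ((∑ x ∈ (Finset.univ : Finset (P : Subgroup G)).erase 1,
          (if hx : x ≠ 1 then y x hx else 0) : AlgInt) : ℂ) = ∑ x ∈ (Finset.univ : Finset (P : Subgroup G)).erase 1,
          ((if hx : x ≠ 1 then y x hx else 0 : AlgInt) : ℂ) := by
          exact map_sum (AlgInt.val) _ _
        rw [h7, Finset.mul_sum]
        have h8 : ((-d * eθ : ℤ) : ℂ) = -(d : ℂ) * eθ := by push_cast; ring
        rw [h8, ← hpart]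
        refine Finset.sum_congr rfl fun x hx => ?_
        have hx1 : x ≠ 1 := (Finset.mem_erase.1 hx).1
        rw [dif_pos hx1]
        exact hy x hx1
      have h8 := dvd_of_algInt h6
      have h9 : (p : ℤ) ∣ eθ := by
        rcases hd with rfl | rfl
        · rw [show (-1 * (eθ : ℤ)) = -(eθ : ℤ) by ring] at h8
          exact (dvd_neg).1 h8
        · simpa using h8
      have h10 : p ∣ eθ := by exact_mod_cast h9
      have h11 := Nat.le_of_dvd he0 h10
      have h12 : eθ ≤ eθ * (m * t) := by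
        apply Nat.le_mul_of_pos_right
        rcases Nat.eq_zero_or_pos (m * t) with h | h
        · rw [h, mul_zero] at het
          omega
        · exact h
      omega

open scoped Classical in
/-- The sum over the class of a `p`-regular element, modulo `p`. -/
theorem exists_sum_class [Fintype G] (hK : IsComp p (P : Subgroup G) K) (hP : Nat.card P = p) {χ : G → ℂ}
    (hχ : IsCharacter G χ) {t : G} (ht : ¬ p ∣ orderOf t) {t0 : K} (hS : ∀ c : K, IsConj t (c : G) ↔ IsConj t0 c)
    (x : P) (k : K) [Fintype K] : ∃ a : AlgInt, ∑ u with IsConj t u, χ (u * (x * k)) =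
      ∑ c with IsConj t0 c, χ ((c : K) * (x * k)) + (p : ℂ) * a := by
  have hcf : IsClassFunction G χ := Cfsg.Agent.Characters.Core.isCharacter_isClassFunction hχ
  let f : G → AlgInt := fun u => if IsConj t u then ⟨χ (u * (x * k)),
    Cfsg.Agent.Characters.GaloisBasic.isIntegral_apply hχ _⟩ else 0
  have hf : ∀ v ∈ (P : Subgroup G), ∀ u : G, f (v * u * v⁻¹) = f u := by
    intro v hv u
    have h1 : IsConj t (v * u * v⁻¹) ↔ IsConj t u := by
      constructor
      · intro h
        exact h.trans (isConj_iff.2 ⟨v⁻¹, by group⟩)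
      · intro h
        exact h.trans (isConj_iff.2 ⟨v, rfl⟩)
    have h2 : χ (v * u * v⁻¹ * (x * k)) = χ (u * (x * k)) := by
      have hPcomm : (v : G) * x = x * v :=
        mem_centralizer_iff.1 (le_centralizer hP x.2) v hv
      have hvk : (v : G) * k = k * v := hK.comm hv k.2
      have h3 : v * u * v⁻¹ * (x * k) = v * (u * (x * k)) * v⁻¹ := by
        have h4 : v⁻¹ * (x * k) = (x * k) * v⁻¹ := by
          have h5 : v * (x * k) = (x * k) * v := by rw [← mul_assoc, hPcomm, mul_assoc, hvk, mul_assoc]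
          calc v⁻¹ * (x * k) = v⁻¹ * (x * k * v) * v⁻¹ := by group
            _ = v⁻¹ * (v * (x * k)) * v⁻¹ := by rw [h5]
            _ = x * k * v⁻¹ := by group
        rw [mul_assoc (v * u), h4]
        group
      rw [h3, hcf]
    simp only [f, h1, h2]
  obtain ⟨a, ha⟩ := Cfsg.Agent.Blocks.OrbitSum.sum_eq_sum_centralizer_add_smul (P : Subgroup G) P.isPGroup' f hf
  refine ⟨a, ?_⟩
  have h1 := congrArg (AlgInt.val) ha
  rw [map_sum, map_add, map_sum, map_nsmul] at h1
  have hfv : ∀ u : G, AlgInt.val (f u) = if IsConj t u then χ (u * (x * k)) else 0 := by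
    intro u
    simp only [f]
    split_ifs <;> rfl
  have e1 : ∑ u : G, AlgInt.val (f u) = ∑ u with IsConj t u, χ (u * (x * k)) := by
    rw [Finset.sum_filter]
    exact Finset.sum_congr rfl fun u _ => hfv u
  have e2 : ∑ u ∈ Finset.univ.filter (· ∈ centralizer ((P : Subgroup G) : Set G)), AlgInt.val (f u) =
      ∑ c with IsConj t0 c, χ ((c : K) * (x * k)) := by
    rw [Finset.sum_congr rfl fun u _ => hfv u, ← Finset.sum_filter, Finset.filter_filter]
    symm
    refine Finset.sum_bij (fun (c : K) _ => (c : G)) ?_ ?_ ?_ ?_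
    · intro c hc
      rw [Finset.mem_filter] at hc ⊢
      exact ⟨Finset.mem_univ _, hK.le c.2, (hS c).2 hc.2⟩
    · intro c _ c' _ h
      exact Subtype.ext h
    · intro u hu
      rw [Finset.mem_filter] at hu
      obtain ⟨-, hu1, hu2⟩ := hu
      have huo : ¬ p ∣ orderOf u := by
        obtain ⟨g, hg⟩ := isConj_iff.1 hu2
        have h2 : orderOf (g * t * g⁻¹) = orderOf t := by
          have := orderOf_injective (MulAut.conj g).toMonoidHom (MulAut.conj g).injective t
          simpa using this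
        rw [← hg, h2]
        exact ht
      have huK : u ∈ K := (hK u).2 ⟨hu1, huo⟩
      exact ⟨⟨u, huK⟩, by rw [Finset.mem_filter]; exact ⟨Finset.mem_univ _, (hS _).1 hu2⟩, rfl⟩
    · intro c _
      rfl
  rw [e1, e2] at h1
  rw [h1]
  congr 1
  rw [nsmul_eq_mul]
  rfl

open scoped Classical in
/-- Translation in the local group. -/
theorem sum_translate [Fintype K] (hK : IsComp p (P : Subgroup G) K) {χ : G → ℂ} {θ : K → ℂ}
    (hθ : IsIrrCharacter K θ) (t0 : K) (x : P) :
    θ 1 * ∑ k : K, (∑ c with IsConj t0 c, χ ((c : K) * (x * k))) * conj (θ k) =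
      ((centralizer ({t0} : Set K)).index : ℂ) * conj (θ t0⁻¹) * ∑ k : K, χ (x * k) * conj (θ k) := by
  have hθ1 : θ 1 ≠ 0 := Cfsg.Agent.Characters.Central.irr_one_ne_zero hθ
  have hch := isIrr_isCharacter hθ
  have h1 : ∀ c : K, ∑ k : K, χ ((c : K) * (x * k)) * conj (θ k) =
      ∑ k : K, χ (x * k) * conj (θ (c⁻¹ * k)) := by
    intro c
    rw [← Equiv.sum_comp (Equiv.mulLeft c⁻¹)]
    refine Finset.sum_congr rfl fun k _ => ?_
    simp only [Equiv.coe_mulLeft]
    congr 2
    have h2 := hK.comm (x := (x : G)) x.2 c.2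
    calc (c : G) * (x * ((c⁻¹ * k : K) : G)) = ((c : G) * x) * ((c : G)⁻¹ * k) := by
          simp only [coe_mul, coe_inv]; group
      _ = (x * c) * ((c : G)⁻¹ * k) := by rw [h2]
      _ = x * k := by group
  have h2 : ∑ k : K, (∑ c with IsConj t0 c, χ ((c : K) * (x * k))) * conj (θ k) =
      ∑ k : K, χ (x * k) * ∑ c with IsConj t0 c, conj (θ (c⁻¹ * k)) := by
    calc ∑ k : K, (∑ c with IsConj t0 c, χ ((c : K) * (x * k))) * conj (θ k)
        = ∑ c with IsConj t0 c, ∑ k : K, χ ((c : K) * (x * k)) * conj (θ k) := by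
          rw [Finset.sum_comm]
          exact Finset.sum_congr rfl fun k _ => Finset.sum_mul _ _ _
      _ = ∑ c with IsConj t0 c, ∑ k : K, χ (x * k) * conj (θ (c⁻¹ * k)) :=
          Finset.sum_congr rfl fun c _ => h1 c
      _ = _ := by
          rw [Finset.sum_comm]
          exact Finset.sum_congr rfl fun k _ => (Finset.mul_sum _ _ _).symm
  have h3 : ∀ k : K, θ 1 * ∑ c with IsConj t0 c, conj (θ (c⁻¹ * k)) =
      ((centralizer ({t0} : Set K)).index : ℂ) * conj (θ t0⁻¹) * conj (θ k) := by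
    intro k
    have h4 : ∀ c : K, conj (θ (c⁻¹ * k)) = θ (c * k⁻¹) := by
      intro c
      rw [← isCharacter_apply_inv hch, mul_inv_rev, inv_inv]
      have := isIrr_isClassFunction hθ (k⁻¹ * c) k
      rw [← this]
      congr 1
      group
    have h5 : ∑ c with IsConj t0 c, θ (c * k⁻¹) =
        ((centralizer ({t0} : Set K)).index : ℂ) * θ t0 * θ k⁻¹ / θ 1 :=
      (Finset.sum_congr (by ext; simp) fun _ _ => rfl).trans
        (Cfsg.Agent.Characters.ClassMul.sum_class_char_mul hθ t0 k⁻¹)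
    rw [Finset.sum_congr rfl fun c _ => h4 c, h5,
      isCharacter_apply_inv hch, isCharacter_apply_inv hch, Complex.conj_conj]
    field_simp
  rw [h2, Finset.mul_sum, Finset.mul_sum]
  refine Finset.sum_congr rfl fun k _ => ?_
  calc θ 1 * (χ (x * k) * ∑ c with IsConj t0 c, conj (θ (c⁻¹ * k)))
      = χ (x * k) * (θ 1 * ∑ c with IsConj t0 c, conj (θ (c⁻¹ * k))) := by ring
    _ = _ := by rw [h3]; ring

/-- **The central character modulo `p`.** -/
theorem central_congr (hK : IsComp p (P : Subgroup G) K) (hP : Nat.card P = p) (χ : IrrCharacter G)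
    (θ : IrrCharacter K) {x : P} (hnd : ∀ y : AlgInt, part (θ : K → ℂ) (χ : G → ℂ) x ≠ (p : ℂ) * y) {t : G}
    (ht : ¬ p ∣ orderOf t) {t0 : K} (hS : ∀ c : K, IsConj t (c : G) ↔ IsConj t0 c) {w : ℤ}
    (hw : ((centralizer ({t} : Set G)).index : ℂ) * (χ : G → ℂ) t / (χ : G → ℂ) 1 = w) {τ : ℤ}
    (hτ : (θ : K → ℂ) t0 = τ) {n : ℕ} (hn : (θ : K → ℂ) 1 = n) :
    (p : ℤ) ∣ n * w - ((centralizer ({t0} : Set K)).index : ℤ) * τ := by
  classical
  have hGf := Fintype.ofFinite G
  have hKf := Fintype.ofFinite K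
  by_contra hcon
  set s : ℤ := ((centralizer ({t0} : Set K)).index : ℤ) with hs
  have hχc := isIrr_isCharacter χ.2
  have hch := isIrr_isCharacter θ.2
  -- the part is an algebraic integer
  have hint : IsIntegral ℤ (part (θ : K → ℂ) (χ : G → ℂ) x) :=
    Cfsg.Agent.Characters.GaloisBasic.isIntegral_apply (isCharacter_part hK hχc θ.2) x
  choose a ha using fun k : K => exists_sum_class hK hP hχc ht hS x k
  have h1 : ∀ k : K, (w : ℂ) * (χ : G → ℂ) (x * k) =
      ∑ c with IsConj t0 c, (χ : G → ℂ) ((c : K) * (x * k)) + (p : ℂ) * a k := by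
    intro k
    have h0 : ∑ u with IsConj t u, (χ : G → ℂ) (u * (x * k)) =
        ((centralizer ({t} : Set G)).index : ℂ) * (χ : G → ℂ) t * (χ : G → ℂ) (x * k) / (χ : G → ℂ) 1 :=
      (Finset.sum_congr (by ext; simp) fun _ _ => rfl).trans
        (Cfsg.Agent.Characters.ClassMul.sum_class_char_mul χ.2 t (x * k))
    rw [← ha k, h0, ← hw]
    ring
  have hconjτ : conj ((θ : K → ℂ) t0⁻¹) = τ := by
    rw [isCharacter_apply_inv hch, Complex.conj_conj, hτ]
  have h2 := sum_translate (χ := (χ : G → ℂ)) hK θ.2 t0 x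
  rw [hconjτ, hn] at h2
  have hcard0 : (Nat.card K : ℂ) ≠ 0 := by exact_mod_cast Nat.card_pos.ne'
  have h3 : ∑ k : K, (χ : G → ℂ) (x * k) * conj ((θ : K → ℂ) k) =
      (Nat.card K : ℂ) * part (θ : K → ℂ) (χ : G → ℂ) x := by
    rw [part_eq]
    field_simp
  let b : AlgInt := ∑ k : K, a k * ⟨conj ((θ : K → ℂ) k), by
    rw [← isCharacter_apply_inv hch]
    exact Cfsg.Agent.Characters.GaloisBasic.isIntegral_apply hch _⟩
  have hb : (b : ℂ) = ∑ k : K, (a k : ℂ) * conj ((θ : K → ℂ) k) := by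
    have := map_sum (AlgInt.val) (fun k : K => a k * (⟨conj ((θ : K → ℂ) k), by
      rw [← isCharacter_apply_inv hch]
      exact Cfsg.Agent.Characters.GaloisBasic.isIntegral_apply hch _⟩ : AlgInt)) Finset.univ
    exact this
  have h4 : (w : ℂ) * ∑ k : K, (χ : G → ℂ) (x * k) * conj ((θ : K → ℂ) k) =
      ∑ k : K, (∑ c with IsConj t0 c, (χ : G → ℂ) ((c : K) * (x * k))) * conj ((θ : K → ℂ) k) + (p : ℂ) * b := by
    rw [hb, Finset.mul_sum, Finset.mul_sum, ← Finset.sum_add_distrib]
    refine Finset.sum_congr rfl fun k _ => ?_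
    rw [← mul_assoc, h1 k]
    ring
  have h5 : (((n : ℤ) * w - s * τ : ℤ) : ℂ) * ((Nat.card K : ℂ) * part (θ : K → ℂ) (χ : G → ℂ) x) =
      (p : ℂ) * (n * b) := by
    rw [h3] at h4 h2
    have h6 : (s : ℂ) = ((centralizer ({t0} : Set K)).index : ℂ) := by rw [hs]; norm_cast
    push_cast
    rw [h6]
    linear_combination (n : ℂ) * h4 + h2
  -- the multiple is prime to `p`
  have hKp : ¬ p ∣ Nat.card K := hK.not_dvd_card
  have hcop : IsCoprime (((n : ℤ) * w - s * τ) * (Nat.card K : ℤ)) (p : ℤ) := by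
    have hpi : Prime (p : ℤ) := Nat.prime_iff_prime_int.1 hp.out
    rw [isCoprime_comm]
    rw [Prime.coprime_iff_not_dvd hpi]
    intro h
    rcases hpi.dvd_or_dvd h with h | h
    · exact hcon h
    · exact hKp (by exact_mod_cast h)
  obtain ⟨u, v, huv⟩ := hcop
  apply hnd ((u : AlgInt) * ((n : AlgInt) * b) + (v : AlgInt) * ⟨_, hint⟩)
  have h6 : ((u : ℂ) * ((((n : ℤ) * w - s * τ : ℤ) : ℂ) * (Nat.card K : ℂ)) + (v : ℂ) * p) = 1 := by
    exact_mod_cast huv
  have h7 : (((u : AlgInt) * ((n : AlgInt) * b) + (v : AlgInt) * ⟨_, hint⟩ : AlgInt) : ℂ) =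
      (u : ℂ) * ((n : ℂ) * b) + (v : ℂ) * part (θ : K → ℂ) (χ : G → ℂ) x := by
    push_cast
    rfl
  rw [h7]
  linear_combination (-part (θ : K → ℂ) (χ : G → ℂ) x) * h6 + (u : ℂ) * h5

end Cfsg.Agent.H606.OreM.Block
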