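import Cfsg.Agent.H562.OreM.QVal
import Cfsg.Agent.H847.MonDeg
import Cfsg.Agent.H58.Cop.MLow
import Cfsg.Agent.H819.ParLift
import Cfsg.Agent.H819.Base
import Cfsg.Agent.SmallSimple.DihedralNormalizerSimple
import Cfsg.Agent.Blocks.CentralScalar
import Cfsg.Agent.Characters.Central
import Cfsg.Agent.Blocks.Knorr

/-!
# The values of the irreducible characters of the Monster at the involutions (helper606)

`values` : degree, value at `2A`, value at `2B` in terms of four natural numbers; `omega_A`, `omega_B` : the integrality;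
`min_deg` : the degree is at least 196883.
-/

set_option autoImplicit false
set_option maxRecDepth 100000

namespace Cfsg.Agent.H606.OreM

open Cfsg Cfsg.Agent.MonsterX Cfsg.Agent.MonsterX.InstData Cfsg.Agent.MonsterX.MainPack Cfsg.Agent.MonsterU
open Cfsg.Agent.MonsterP Cfsg.Agent.MonsterN Cfsg.Agent.LThreeMB
open Cfsg.Agent.MonsterX.MainBasic Cfsg.Agent.MonsterX.MainSimple Cfsg.Agent.MonsterX.Model
open Cfsg.Agent.BpSpor.MBigModel
open Cfsg.Agent.LThreeB.Row (TA)
open Cfsg.Spor (Co1)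
open Cfsg.Agent.MonsterU.Lam2 Cfsg.Agent.MonsterU.TwoCls
open Subgroup (centralizer zpowers mem_centralizer_singleton_iff)
open Cfsg.Agent.Characters.Core

instance finMG : Finite MG := finite

instance simpleMG : IsSimpleGroup MG := simple

/-- a conjugate of `z` of type 4 -/
theorem exists_four : ∃ y ∈ KDone.K.ι.range, IsType 4 (KChart.eta KDone.lft y) ∧ ∃ g : MG, g * zz * g⁻¹ = y := by
  obtain ⟨g, hg, hg'⟩ := Cfsg.Agent.H819.ParLift.fused
  exact ⟨_, hg, (H819.Base.type_four_iff chart Cfsg.Agent.H819.ParLift.fused hg).2 ⟨isConj_iff.2 ⟨g, rfl⟩, hg'⟩, g, rfl⟩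

/-- an element of type 2 of the class `2A` -/
theorem exists_two : ∃ y ∈ KDone.K.ι.range, IsType 2 (KChart.eta KDone.lft y) ∧ TA y := by
  obtain ⟨x, hx⟩ : {x : L2 | IsType 2 x}.Nonempty :=
    Set.nonempty_of_ncard_ne_zero (by rw [ConwayFacts.NormL2.ncard_two]; norm_num)
  obtain ⟨y, hy, hyx⟩ := chart.eta_surj x
  obtain ⟨p, rfl⟩ := hy
  refine ⟨_, ⟨p, rfl⟩, by rw [hyx]; exact hx, ?_⟩
  rw [KChart.eta_ι] at hyx
  exact ta_iota (by rw [hyx]; exact hx)

theorem ta_isConj {s t : MG} (hs : TA s) (ht : TA t) : IsConj s t := by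
  have h1 : IsConj (tG LitFin.all.hG LitFin.all.hR) s := hs
  have h2 : IsConj (tG LitFin.all.hG LitFin.all.hR) t := ht
  exact h1.symm.trans h2

theorem ta_of_isConj {s t : MG} (hs : TA s) (h : IsConj s t) : TA t := by
  have h1 : IsConj (tG LitFin.all.hG LitFin.all.hR) s := hs
  exact h1.trans h

/-- **The values.** -/
theorem values (χ : IrrCharacter MG) {t : MG} (ht : TA t) : ∃ a b c e : ℕ,
    charDegree (χ : MG → ℂ) = a + 196584 * b + 16775168 * c + 16582679 * e ∧
      (χ : MG → ℂ) t = (((a : ℤ) + 4072 * b - 2048 * c - 2025 * e : ℤ) : ℂ) ∧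
      (χ : MG → ℂ) zz = (((a : ℤ) - 24 * b - 2048 * c + 2071 * e : ℤ) : ℂ) := by
  obtain ⟨n, ρ, hρ, hρχ⟩ := id χ.2
  obtain ⟨y4, h4Q, h4, hc4⟩ := exists_four
  obtain ⟨y2, h2Q, h2, hta⟩ := exists_two
  obtain ⟨a, b, c, e, h1, h3, h5⟩ := H562.OreM.QVal.values chart ρ h4Q h4 hc4 h2Q h2
  have hch : ∀ g : MG, (χ : MG → ℂ) g = LinearMap.trace ℂ (Fin n → ℂ) (ρ g) := by
    intro g
    rw [← hρχ]
    rfl
  have hdeg : charDegree (χ : MG → ℂ) = n := by
    unfold charDegree
    rw [← hρχ]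
    simp
  refine ⟨a, b, c, e, ?_, ?_, ?_⟩
  · rw [hdeg, ← h1, Module.finrank_fin_fun]
  · obtain ⟨g, hg⟩ := isConj_iff.1 (ta_isConj hta ht)
    rw [← hg, isIrr_isClassFunction χ.2, hch, h3]
  · rw [hch, h5]

theorem min_deg (χ : IrrCharacter MG) (hχ : (χ : MG → ℂ) ≠ 1) : 196883 ≤ charDegree (χ : MG → ℂ) := by
  obtain ⟨n, ρ, hρ, hρχ⟩ := id χ.2
  have hdeg : charDegree (χ : MG → ℂ) = n := by
    unfold charDegree
    rw [← hρχ]
    simp
  rw [hdeg]
  have hirr : IsIrrCharacter MG (Representation.character (ρ : Representation ℂ MG (Fin n → ℂ))) := by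
    rw [hρχ]; exact χ.2
  have h := H847.MonDeg.bound_model (V := Fin n → ℂ) ρ (by
    by_contra hcon
    push Not at hcon
    apply zz_ne
    exact SmallSimple.DihedralNormalizerSimple.ker_eq_bot ρ hirr (by rw [hρχ]; exact hχ) zz (hcon zz))
  rwa [Module.finrank_fin_fun] at h

/-- `|2A|` -/
def nA : ℕ := 97239461142009186000

/-- `|2B|` -/
def nB : ℕ := 5791748068511982636944259375

theorem index_A {t : MG} (ht : TA t) : (centralizer ({t} : Set MG)).index = nA := by
  have h1 := (centralizer ({t} : Set MG)).card_mul_index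
  rw [card_cent_t ht, card_M] at h1
  unfold nA
  omega

theorem index_B : (centralizer ({zz} : Set MG)).index = nB := by
  have h1 := (centralizer ({zz} : Set MG)).card_mul_index
  rw [card_cent_z, card_M] at h1
  unfold nB
  omega

/-- a rational central character value is an integer -/
theorem omega_int {G : Type*} [Group G] [Finite G] (χ : IrrCharacter G) (t : G) {v : ℤ} (hv : (χ : G → ℂ) t = v) :
    ∃ w : ℤ, ((centralizer ({t} : Set G)).index : ℂ) * (χ : G → ℂ) t / (χ : G → ℂ) 1 = w ∧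
      (charDegree (χ : G → ℂ) : ℤ) * w = (centralizer ({t} : Set G)).index * v := by
  have h1 : IsIntegral ℤ (((centralizer ({t} : Set G)).index : ℂ) * (χ : G → ℂ) t / (χ : G → ℂ) 1) :=
    Blocks.CentralScalar.isIntegral_centralChar χ.2 t
  have hd : (χ : G → ℂ) 1 = (charDegree (χ : G → ℂ) : ℂ) := Blocks.Knorr.charDegree_eq χ.2
  have hd0 : (charDegree (χ : G → ℂ) : ℂ) ≠ 0 := by
    rw [← hd]; exact Characters.Central.irr_one_ne_zero χ.2
  have h2 : ((centralizer ({t} : Set G)).index : ℂ) * (χ : G → ℂ) t / (χ : G → ℂ) 1 =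
      (((((centralizer ({t} : Set G)).index : ℚ) * v / charDegree (χ : G → ℂ)) : ℚ) : ℂ) := by
    rw [hv, hd]
    push_cast
    rfl
  rw [h2] at h1
  have h3 := (isIntegral_algebraMap_iff (algebraMap ℚ ℂ).injective).1 h1
  obtain ⟨w, hw⟩ := IsIntegrallyClosed.isIntegral_iff.1 h3
  have hw' : (w : ℚ) = ((centralizer ({t} : Set G)).index : ℚ) * v / charDegree (χ : G → ℂ) := hw
  refine ⟨w, ?_, ?_⟩
  · rw [h2, ← hw']
    push_cast
    rfl
  · have hd1 : (charDegree (χ : G → ℂ) : ℚ) ≠ 0 := by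
      intro h
      apply hd0
      exact_mod_cast h
    rw [eq_div_iff hd1] at hw'
    have h4 : (w : ℤ) * (charDegree (χ : G → ℂ) : ℤ) = ((centralizer ({t} : Set G)).index : ℤ) * v := by
      exact_mod_cast hw'
    rw [← h4]; ring

end Cfsg.Agent.H606.OreM
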