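import Cfsg.Agent.H606.OreM.Vals
import Cfsg.Agent.H436.MonRealAll

/-!
# The value of a character at an involution inverting an element of odd prime order (helper606)

`inv_abs_le` : `p |χ(h)| ≤ χ(1) + ∑_{0 < i < p} ‖χ(x^i)‖` if the involution `h` inverts `x` of order `p`;
`zbound` : `41 |χ(2B)| ≤ χ(1) + 257` for the Monster, from `|C(x)| = 41`, `x` of order 41.
-/

set_option autoImplicit false
set_option maxRecDepth 100000

namespace Cfsg.Agent.H606.OreM

open Cfsg Cfsg.Agent.BpSpor.MBigModel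
open Cfsg.Agent.LThreeB.Row (TA)
open Cfsg.Agent.Characters.Core
open Subgroup (centralizer zpowers mem_centralizer_singleton_iff)
open scoped ComplexConjugate

section gen

/-- the trace of a multiple of an idempotent -/
theorem trace_nat {V : Type*} [AddCommGroup V] [Module ℂ V] [FiniteDimensional ℂ V] (T : V →ₗ[ℂ] V) {c : ℕ}
    (hc : 0 < c) (hT : T * T = (c : ℂ) • T) : ∃ m : ℕ, LinearMap.trace ℂ V T = c * m := by
  have hc0 : (c : ℂ) ≠ 0 := Nat.cast_ne_zero.2 hc.ne'
  have hf : IsIdempotentElem ((c : ℂ)⁻¹ • T) := by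
    show ((c : ℂ)⁻¹ • T) * ((c : ℂ)⁻¹ • T) = (c : ℂ)⁻¹ • T
    rw [smul_mul_smul_comm, hT, smul_smul, mul_assoc, inv_mul_cancel₀ hc0, mul_one]
  have h1 := LinearMap.IsProj.trace (LinearMap.IsIdempotentElem.isProj_range _ hf)
  rw [map_smul, smul_eq_mul] at h1
  exact ⟨_, by rw [← h1, ← mul_assoc, mul_inv_cancel₀ hc0, one_mul]⟩

variable {G : Type*} [Group G] [Finite G]

theorem norm_sq_le (χ : IrrCharacter G) (g : G) :
    ‖(χ : G → ℂ) g‖ ^ 2 ≤ Nat.card (centralizer ({g} : Set G)) := by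
  classical
  have := Fintype.ofFinite G
  have := finite_irr (G := G)
  have := Fintype.ofFinite (IrrCharacter G)
  have h1 := S0145.sum_irr_mul_conj g g
  rw [if_pos (IsConj.refl _)] at h1
  have h2 : ∀ ψ : IrrCharacter G, (ψ : G → ℂ) g * conj ((ψ : G → ℂ) g) = ((‖(ψ : G → ℂ) g‖ ^ 2 : ℝ) : ℂ) := by
    intro ψ
    rw [Complex.mul_conj, Complex.normSq_eq_norm_sq]
  rw [Finset.sum_congr rfl fun ψ _ => h2 ψ, ← Complex.ofReal_sum] at h1
  have h3 : ∑ ψ : IrrCharacter G, ‖(ψ : G → ℂ) g‖ ^ 2 = (Nat.card (centralizer ({g} : Set G)) : ℝ) := by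
    exact_mod_cast h1
  rw [← h3]
  exact Finset.single_le_sum (f := fun ψ : IrrCharacter G => ‖(ψ : G → ℂ) g‖ ^ 2) (fun _ _ => by positivity)
    (Finset.mem_univ χ)

/-- **The value at an involution inverting `x`.** -/
theorem inv_abs_le (χ : IrrCharacter G) {x h : G} {p : ℕ} (hp : 0 < p) (hx : x ^ p = 1) (hodd : Odd p) (hh : h * h = 1)
    (hinv : h * x * h⁻¹ = x⁻¹) {v : ℤ} (hv : (χ : G → ℂ) h = v) {B : ℝ}
    (hB : ∀ i, 0 < i → i < p → ‖(χ : G → ℂ) (x ^ i)‖ ≤ B) :
    (p : ℝ) * |(v : ℝ)| ≤ charDegree (χ : G → ℂ) + (p - 1) * B := by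
  obtain ⟨n, ρ, hρ, hρχ⟩ := id χ.2
  have hch : ∀ g : G, (χ : G → ℂ) g = LinearMap.trace ℂ (Fin n → ℂ) (ρ g) := by
    intro g
    rw [← hρχ]
    rfl
  set E : (Fin n → ℂ) →ₗ[ℂ] (Fin n → ℂ) := ∑ i ∈ Finset.range p, ρ (x ^ i) with hE
  have hxE : ρ x * E = E := by
    rw [hE, Finset.mul_sum]
    have h1 : ∀ i ∈ Finset.range p, ρ x * ρ (x ^ i) = ρ (x ^ (i + 1)) := fun i _ => by
      rw [← map_mul, ← pow_succ']
    rw [Finset.sum_congr rfl h1]
    obtain ⟨q, rfl⟩ : ∃ q, p = q + 1 := ⟨p - 1, by omega⟩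
    rw [Finset.sum_range_succ, Finset.sum_range_succ', hx, pow_zero]
  have hiE : ∀ i : ℕ, ρ (x ^ i) * E = E := by
    intro i
    induction i with
    | zero => rw [pow_zero, map_one, one_mul]
    | succ i ih => rw [pow_succ, map_mul, mul_assoc, hxE, ih]
  have hEE : E * E = (p : ℂ) • E := by
    nth_rewrite 1 [hE]
    rw [Finset.sum_mul, Finset.sum_congr rfl fun i _ => hiE i, Finset.sum_const, Finset.card_range]
    rw [Nat.cast_smul_eq_nsmul]
  have hhE : ρ h * E = E * ρ h := by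
    have hpow : ∀ i : ℕ, h * x ^ i = x⁻¹ ^ i * h := by
      intro i
      have h1 : h * x ^ i * h⁻¹ = x⁻¹ ^ i := by rw [← conj_pow, hinv]
      rw [← h1]; group
    have h2 : ∀ i ∈ Finset.range p, x⁻¹ ^ i = x ^ (p - i) := by
      intro i hi
      rw [Finset.mem_range] at hi
      rw [inv_pow, inv_eq_iff_mul_eq_one, ← pow_add, Nat.add_sub_cancel' hi.le, hx]
    have h3 : ∑ i ∈ Finset.range p, ρ (x ^ (p - i)) = E := by
      have h4 := Finset.sum_range_reflect (fun i => ρ (x ^ (i + 1))) p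
      have h5 : ∑ i ∈ Finset.range p, ρ (x ^ (i + 1)) = E := by
        have h6 : ρ x * E = ∑ i ∈ Finset.range p, ρ (x ^ (i + 1)) := by
          rw [hE, Finset.mul_sum]
          exact Finset.sum_congr rfl fun i _ => by rw [← map_mul, ← pow_succ']
        rw [← h6, hxE]
      rw [h5] at h4
      rw [← h4]
      refine Finset.sum_congr rfl fun i hi => ?_
      rw [Finset.mem_range] at hi
      congr 3
      omega
    calc ρ h * E = ∑ i ∈ Finset.range p, ρ (x⁻¹ ^ i) * ρ h := by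
          rw [hE, Finset.mul_sum]
          exact Finset.sum_congr rfl fun i _ => by rw [← map_mul, hpow, map_mul]
      _ = (∑ i ∈ Finset.range p, ρ (x ^ (p - i))) * ρ h := by
          rw [Finset.sum_mul]
          exact Finset.sum_congr rfl fun i hi => by rw [h2 i hi]
      _ = E * ρ h := by rw [h3]
  have hhh : ρ h * ρ h = 1 := by rw [← map_mul, hh, map_one]
  -- the two traces
  have hT : ∀ s : ℂ, s * s = 1 → ∃ m : ℕ, LinearMap.trace ℂ (Fin n → ℂ) (E + s • (ρ h * E)) = ((2 * p : ℕ) : ℂ) * m := by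
    intro s hs
    refine trace_nat _ (by omega) ?_
    have e1 : E * (ρ h * E) = (p : ℂ) • (ρ h * E) := by
      rw [← mul_assoc, ← hhE, mul_assoc, hEE, mul_smul_comm]
    have e2 : (ρ h * E) * E = (p : ℂ) • (ρ h * E) := by rw [mul_assoc, hEE, mul_smul_comm]
    have e3 : (ρ h * E) * (ρ h * E) = (p : ℂ) • E := by
      rw [mul_assoc, e1, mul_smul_comm, ← mul_assoc, hhh, one_mul]
    rw [add_mul, mul_add, mul_add, hEE, mul_smul_comm, smul_mul_assoc, smul_mul_smul_comm, e1, e2, e3, hs, one_smul]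
    rw [smul_add]
    push_cast
    module
  obtain ⟨m₁, h1⟩ := hT 1 (by norm_num)
  obtain ⟨m₂, h2⟩ := hT (-1) (by norm_num)
  have htrE : LinearMap.trace ℂ (Fin n → ℂ) E = ∑ i ∈ Finset.range p, (χ : G → ℂ) (x ^ i) := by
    rw [hE, map_sum]
    exact Finset.sum_congr rfl fun i _ => (hch _).symm
  have htrh : LinearMap.trace ℂ (Fin n → ℂ) (ρ h * E) = p * (v : ℂ) := by
    rw [hE, Finset.mul_sum, map_sum]
    have h3 : ∀ i ∈ Finset.range p, LinearMap.trace ℂ (Fin n → ℂ) (ρ h * ρ (x ^ i)) = v := by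
      intro i _
      rw [← map_mul, ← hch, ← hv]
      -- `h x^i` is conjugate to `h`
      obtain ⟨k, hk⟩ := hodd
      have e1 : x ^ i = (x ^ ((k + 1) * i)) * (x ^ ((k + 1) * i)) := by
        rw [← pow_add, (by rw [hk]; ring : (k + 1) * i + (k + 1) * i = p * i + i), pow_add, pow_mul, hx, one_pow,
          one_mul]
      have e2 : h * x ^ ((k + 1) * i) = (x ^ ((k + 1) * i))⁻¹ * h := by
        have h1 : h * x ^ ((k + 1) * i) * h⁻¹ = (x ^ ((k + 1) * i))⁻¹ := by rw [← conj_pow, hinv, inv_pow]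
        rw [← h1]; group
      rw [e1, ← mul_assoc, e2]
      have h5 := isIrr_isClassFunction χ.2 h (x ^ ((k + 1) * i))⁻¹
      rw [inv_inv] at h5
      exact h5
    rw [Finset.sum_congr rfl h3, Finset.sum_const, Finset.card_range, nsmul_eq_mul]
  rw [map_add, map_smul, htrE, htrh, smul_eq_mul] at h1 h2
  set S := ∑ i ∈ Finset.range p, (χ : G → ℂ) (x ^ i) with hS
  have hp0 : (p : ℂ) ≠ 0 := Nat.cast_ne_zero.2 hp.ne'
  have hv' : (v : ℂ) = m₁ - m₂ := by
    push_cast at h1 h2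
    have h3 : (p : ℂ) * (2 * v) = p * (2 * (m₁ - m₂)) := by linear_combination h1 - h2
    have h4 := mul_left_cancel₀ hp0 h3
    linear_combination h4 / 2
  have hS' : S = (p : ℂ) * (m₁ + m₂) := by
    push_cast at h1 h2
    linear_combination (h1 + h2) / 2
  have hvi : v = (m₁ : ℤ) - m₂ := by exact_mod_cast hv'
  have habs : |(v : ℝ)| ≤ m₁ + m₂ := by
    rw [hvi]
    push_cast
    rw [abs_le]
    constructor
    · have : (0 : ℝ) ≤ m₁ := by positivity
      linarith
    · have : (0 : ℝ) ≤ m₂ := by positivity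
      linarith
  have hSre : S.re = (p : ℝ) * (m₁ + m₂) := by
    rw [hS']
    have : (p : ℂ) * (m₁ + m₂) = (((p : ℝ) * (m₁ + m₂) : ℝ) : ℂ) := by push_cast; ring
    rw [this, Complex.ofReal_re]
  have hSle : S.re ≤ charDegree (χ : G → ℂ) + (p - 1) * B := by
    have hd : (χ : G → ℂ) 1 = (charDegree (χ : G → ℂ) : ℂ) := Blocks.Knorr.charDegree_eq χ.2
    obtain ⟨q, rfl⟩ : ∃ q, p = q + 1 := ⟨p - 1, by omega⟩
    rw [hS, Finset.sum_range_succ', pow_zero, hd, Complex.add_re, Complex.natCast_re, Complex.re_sum]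
    have h3 : ∑ i ∈ Finset.range q, ((χ : G → ℂ) (x ^ (i + 1))).re ≤ ∑ i ∈ Finset.range q, B := by
      refine Finset.sum_le_sum fun i hi => ?_
      rw [Finset.mem_range] at hi
      exact (Complex.re_le_norm _).trans (hB (i + 1) (by omega) (by omega))
    rw [Finset.sum_const, Finset.card_range, nsmul_eq_mul] at h3
    push_cast
    linarith
  have hp1 : (0 : ℝ) < p := by exact_mod_cast hp
  calc (p : ℝ) * |(v : ℝ)| ≤ p * (m₁ + m₂) := mul_le_mul_of_nonneg_left habs hp1.le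
    _ = S.re := hSre.symm
    _ ≤ _ := hSle

/-- a real element of odd prime order with centralizer of odd order is inverted by an involution -/
theorem exists_inverting {x g : G} {p : ℕ} (hx : orderOf x = p) (hp : 2 < p) (hodd : Odd (Nat.card (centralizer ({x} : Set G))))
    (hg : g * x * g⁻¹ = x⁻¹) : ∃ h : G, orderOf h = 2 ∧ h * x * h⁻¹ = x⁻¹ := by
  have ho : 0 < orderOf g := orderOf_pos g
  obtain ⟨a, m, hm, hg2⟩ := Nat.exists_eq_two_pow_mul_odd ho.ne'
  have hpow : ∀ j : ℕ, Odd j → g ^ j * x * (g ^ j)⁻¹ = x⁻¹ := by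
    intro j hj
    obtain ⟨i, rfl⟩ := hj
    have h2 : ∀ i : ℕ, g ^ (2 * i) * x * (g ^ (2 * i))⁻¹ = x := by
      intro i
      induction i with
      | zero => simp
      | succ i ih =>
        have e1 : g ^ (2 * (i + 1)) = g * (g * g ^ (2 * i)) := by
          rw [show 2 * (i + 1) = 2 * i + 1 + 1 by ring, pow_succ', pow_succ']
        have e2 : g * x⁻¹ * g⁻¹ = x := by
          have := congrArg (·⁻¹) hg
          simp only [mul_inv_rev, inv_inv] at this
          rw [mul_assoc]; exact this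
        calc g ^ (2 * (i + 1)) * x * (g ^ (2 * (i + 1)))⁻¹
            = g * (g * (g ^ (2 * i) * x * (g ^ (2 * i))⁻¹) * g⁻¹) * g⁻¹ := by rw [e1]; group
          _ = x := by rw [ih, hg, e2]
    calc g ^ (2 * i + 1) * x * (g ^ (2 * i + 1))⁻¹ = g * (g ^ (2 * i) * x * (g ^ (2 * i))⁻¹) * g⁻¹ := by
          rw [pow_succ']; group
      _ = x⁻¹ := by rw [h2, hg]
  set h := g ^ m with hh
  have hinv : h * x * h⁻¹ = x⁻¹ := hpow m hm
  have hne : h ≠ 1 := by
    intro h1
    rw [h1, one_mul, inv_one, mul_one] at hinv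
    have h2 : x ^ 2 = 1 := by
      rw [pow_two]
      nth_rewrite 1 [hinv]
      group
    have h3 : orderOf x ∣ 2 := orderOf_dvd_of_pow_eq_one h2
    rw [hx] at h3
    have := Nat.le_of_dvd (by norm_num) h3
    omega
  have hh2 : h ^ 2 = 1 := by
    have h1 : h * h * x = x * (h * h) := by
      have h2 : h * x = x⁻¹ * h := by rw [← hinv]; group
      have h3 : h * x⁻¹ = x * h := by
        have h4 : h * x⁻¹ * h⁻¹ = x := by
          have := congrArg (·⁻¹) hinv
          simp only [mul_inv_rev, inv_inv] at this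
          rw [mul_assoc]; exact this
        calc h * x⁻¹ = (h * x⁻¹ * h⁻¹) * h := by group
          _ = x * h := by rw [h4]
      calc h * h * x = h * (h * x) := by group
        _ = (h * x⁻¹) * h := by rw [h2]; group
        _ = x * (h * h) := by rw [h3]; group
    have h2 : h ^ 2 ∈ centralizer ({x} : Set G) := mem_centralizer_singleton_iff.2 (by rw [pow_two]; exact h1)
    have h3 : orderOf (h ^ 2) ∣ Nat.card (centralizer ({x} : Set G)) := by
      rw [← Subgroup.orderOf_mk _ h2]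
      exact orderOf_dvd_natCard _
    have h4 : orderOf (h ^ 2) ∣ 2 ^ a := by
      apply orderOf_dvd_of_pow_eq_one
      have h6 : h ^ 2 ^ a = 1 := by rw [hh, ← pow_mul, mul_comm, ← hg2, pow_orderOf_eq_one]
      rw [← pow_mul, mul_comm, pow_mul, h6, one_pow]
    obtain ⟨i, -, hi⟩ := (Nat.dvd_prime_pow Nat.prime_two).1 h4
    rcases Nat.eq_zero_or_pos i with h0 | h0
    · rw [h0, pow_zero] at hi
      exact orderOf_eq_one_iff.1 hi
    · exfalso
      rw [hi] at h3
      have h5 : 2 ∣ Nat.card (centralizer ({x} : Set G)) := (dvd_pow_self 2 h0.ne').trans h3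
      exact (Nat.not_even_iff_odd.2 hodd) (even_iff_two_dvd.2 h5)
  have : Fact (Nat.Prime 2) := ⟨Nat.prime_two⟩
  exact ⟨h, orderOf_eq_prime hh2 hne, hinv⟩

end gen

theorem prime41 : Nat.Prime 41 := by norm_num

/-- an involution of the class `2B` inverts an element of order 41 -/
theorem exists_zz_inv (hC : ∀ x : MG, orderOf x = 41 → Nat.card (centralizer ({x} : Set MG)) = 41) :
    ∃ x : MG, orderOf x = 41 ∧ zz * x * zz⁻¹ = x⁻¹ := by
  obtain ⟨y, hy, hr⟩ := H436.MonRealAll.fortyone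
  obtain ⟨g, hg⟩ := isConj_iff.1 hr
  obtain ⟨m, hm⟩ := hy
  have hy0 : 0 < orderOf y := orderOf_pos y
  have hm0 : m ≠ 0 := by
    rintro rfl
    omega
  set x := y ^ m with hx
  have hxo : orderOf x = 41 := by
    rw [hx, orderOf_pow, hm, Nat.gcd_eq_right (Dvd.intro_left _ rfl), Nat.mul_div_cancel _ (Nat.pos_of_ne_zero hm0)]
  have hgx : g * x * g⁻¹ = x⁻¹ := by rw [hx, ← conj_pow, hg, inv_pow]
  obtain ⟨h, hh, hinv⟩ := exists_inverting hxo (by norm_num) (by rw [hC x hxo]; decide) hgx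
  have hhh : h * h = 1 := by rw [← pow_two, ← hh, pow_orderOf_eq_one]
  rcases cls hh with ⟨c, hc⟩ | hta
  · refine ⟨c⁻¹ * x * c, ?_, ?_⟩
    · have := MulEquiv.orderOf_eq (MulAut.conj c⁻¹) x
      rw [MulAut.conj_apply, inv_inv] at this
      rw [this, hxo]
    · have h1 : zz = c⁻¹ * h * c := by rw [← hc]; group
      rw [h1]
      calc c⁻¹ * h * c * (c⁻¹ * x * c) * (c⁻¹ * h * c)⁻¹ = c⁻¹ * (h * x * h⁻¹) * c := by group
        _ = (c⁻¹ * x * c)⁻¹ := by rw [hinv]; group
  · exfalso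
    have hxp : x ^ 41 = 1 := by rw [← hxo, pow_orderOf_eq_one]
    have e1 : h * x = (x ^ 21)⁻¹ * h * (x ^ 21)⁻¹⁻¹ := by
      have e2 : h * x ^ 21 = (x ^ 21)⁻¹ * h := by
        have h1 : h * x ^ 21 * h⁻¹ = (x ^ 21)⁻¹ := by rw [← conj_pow, hinv, inv_pow]
        rw [← h1]; group
      rw [inv_inv, ← e2, mul_assoc, ← pow_add]
      have e3 : x ^ (21 + 21) = x := by
        rw [show 21 + 21 = 41 + 1 by norm_num, pow_add, hxp, one_mul, pow_one]
      rw [e3]
    have hta2 : TA (h * x) := by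
      rw [e1]
      exact H58.Cop.MLow.ta_conj hta _
    have h6 := H58.Cop.MLow.six_ta hta hta2
    rw [← mul_assoc, hhh, one_mul, hxo] at h6
    omega

/-- **The bound for the value at `2B`.** -/
theorem zbound (hC : ∀ x : MG, orderOf x = 41 → Nat.card (centralizer ({x} : Set MG)) = 41) (χ : IrrCharacter MG)
    {v : ℤ} (hv : (χ : MG → ℂ) zz = v) : 41 * |v| ≤ charDegree (χ : MG → ℂ) + 257 := by
  obtain ⟨x, hx, hinv⟩ := exists_zz_inv hC
  have h1 := inv_abs_le χ (p := 41) (by norm_num) (by rw [← hx, pow_orderOf_eq_one]) (by decide) zz_sq hinv hv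
    (B := 6.42) (by
      intro i hi hi'
      have h2 : orderOf (x ^ i) = 41 := by
        have hF : Fact (Nat.Prime 41) := ⟨prime41⟩
        apply orderOf_eq_prime
        · rw [← pow_mul, mul_comm, pow_mul, ← hx, pow_orderOf_eq_one, one_pow]
        · intro h3
          have h4 := orderOf_dvd_of_pow_eq_one h3
          rw [hx] at h4
          exact absurd (Nat.le_of_dvd hi h4) (by omega)
      have h3 := norm_sq_le χ (x ^ i)
      rw [hC _ h2] at h3
      by_contra h4
      push Not at h4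
      push_cast at h3
      nlinarith)
  have h2 : (41 : ℝ) * |(v : ℝ)| ≤ charDegree (χ : MG → ℂ) + 257 := by
    push_cast at h1
    linarith
  exact_mod_cast h2

end Cfsg.Agent.H606.OreM
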