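import Cfsg.Agent.H606.OreM.Num

/-!
# The tables of the sieve for the Monster (helper606)
-/

set_option autoImplicit false

namespace Cfsg.Agent.H606.OreM.Num

/-- `4096 |2A|` -/
def cA : ℕ := 4096 * 97239461142009186000

/-- `65536 |2B|` -/
def cB : ℕ := 65536 * 5791748068511982636944259375

/-- the table of 47 -/
def tab47 : List (List ℕ × ℕ) :=
  [([1, 23, 24, 46], 0),
   ([1, 23, 24, 46], 7)]

/-- the table of 31 -/
def tab31 : List (List ℕ × ℕ) :=
  [([1, 2, 29, 30], 8),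
   ([1, 15, 16, 30], 0),
   ([1, 15, 16, 30], 16)]

/-- the table of 23 -/
def tab23 : List (List ℕ × ℕ) :=
  [([1, 2, 4, 19, 21, 22], 12),
   ([1, 11, 12, 22], 0),
   ([1, 11, 12, 22], 1),
   ([3, 10, 13, 20], 8),
   ([3, 10, 13, 20], 16)]

/-- the table of 19 -/
def tab19 : List (List ℕ × ℕ) :=
  [([1, 2, 3, 16, 17, 18], 0),
   ([1, 2, 3, 16, 17, 18], 14),
   ([1, 2, 4, 6, 7, 8, 11, 12, 13, 15, 17, 18], 7),
   ([3, 6, 9, 10, 13, 16], 3),
   ([3, 6, 9, 10, 13, 16], 11),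
   ([5, 9, 10, 14], 16),
   ([5, 9, 10, 14], 17)]

/-- the table of 17 -/
def tab17 : List (List ℕ × ℕ) :=
  [([1, 2, 4, 5, 6, 7, 8, 9, 10, 11, 12, 13, 15, 16], 16),
   ([1, 2, 4, 13, 15, 16], 0),
   ([1, 2, 4, 13, 15, 16], 15),
   ([3, 5, 6, 11, 12, 14], 5),
   ([3, 5, 6, 11, 12, 14], 10),
   ([3, 7, 10, 14], 4),
   ([3, 7, 10, 14], 11),
   ([4, 13], 7),
   ([4, 13], 8),
   ([5, 12], 2),
   ([5, 12], 13),
   ([8, 9], 3),
   ([8, 9], 12)]

/-- all the primes -/
def tabs : List (ℕ × List (List ℕ × ℕ)) := [(47, tab47), (31, tab31), (23, tab23), (19, tab19), (17, tab17)]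

/-- The prime factors of the order of the Monster, without 59. -/
def lst : List (ℕ × ℕ) := [(71, 1), (47, 1), (41, 1), (31, 1), (29, 1), (23, 1), (19, 1), (17, 1), (13, 3), (11, 2), (7, 6),
  (5, 9), (3, 20), (2, 46)]

/-- a bit of a mask -/
def bit (m x : ℕ) : Bool := Nat.beq (Nat.land (Nat.shiftRight m x) 1) 1

/-- The test of a degree, `dn`, `dx` the bounds; the masks of the residues modulo 59, 71, 41. -/
def cert (dn dx : ℕ) (T : List (ℕ × List (List ℕ × ℕ))) (d : ℕ) : Bool :=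
  Bool.rec (motive := fun _ => Bool) true
    (!((bit 288230376151711746 (d % 59) && Nat.blt d dn) || (bit 1610612736 (d % 59) && Nat.blt d dx)) ||
      !(mem [0, 1, 35, 36, 70] (d % 71)) || !(mem [0, 1, 40] (d % 41)) || Nat.blt d 196883 || testD cA cB T d)
    (bit 288230377762324482 (d % 59))

end Cfsg.Agent.H606.OreM.Num
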