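import Cfsg.Agent.H606.OreM.Exact
import Cfsg.Agent.H606.OreM.Vals
import Cfsg.Agent.H606.OreM.Tabs

/-!
# The columns of the sieve for the Monster (helper606)
-/

set_option autoImplicit false
set_option linter.unusedSectionVars false

open Cfsg Subgroup
open scoped ComplexConjugate

namespace Cfsg.Agent.H606.OreM

open Cfsg.Agent.BpSpor.MBigModel
open Cfsg.Agent.LThreeB.Row (TA)
open Cfsg.Agent.H606.OreM.Exact Cfsg.Agent.H606.OreM.Num

/-- The table contains all the pairs. -/
def tabOK (r k c e s : ℕ) (T : List (List ℕ × ℕ)) : Bool :=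
  (List.range (e + 1)).all fun m => (List.range (k + 1)).all fun n =>
    (m == 0 || n == 0 || e % m != 0 || k % n != 0) ||
    ((4096 * n * nA) % r != 0 && (List.range (2 * c + 1)).all fun j =>
      ((n + j + c) % 2 != 0 || !((m == 1 && n == 1 && j == c + 1) ||
        (Nat.ble (m * (n * n) + 1) k && decide ((m : ℤ) * (((j : ℤ) - c) * ((j : ℤ) - c)) + 1 ≤ c)))) ||
      T.any fun a => a.1.contains ((m * n) % r) && a.1.contains ((r - (m * n) % r) % r) &&
        a.1.contains ((e * n) % r) && a.1.contains ((r - (e * n) % r) % r) &&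
        decide (((a.2 : ℤ) * (4096 * n * nA) + s * ((j : ℤ) - c) - n * nA) % r = 0))

theorem mod_sub {r d a : ℕ} (h : (r : ℤ) ∣ (d : ℤ) - a) : d % r = a % r :=
  Cfsg.Agent.H653.Sieve.mod_eq_of_dvd_sub h

theorem mod_add {r d a : ℕ} (hr : 0 < r) (h : (r : ℤ) ∣ (d : ℤ) + a) : d % r = (r - a % r) % r :=
  Cfsg.Agent.H653.Sieve.mod_eq_of_dvd_add hr h

theorem okX_of_pair {r : ℕ} (hr : r.Prime) {k c e s : ℕ} {T : List (List ℕ × ℕ)} (hT : tabOK r k c e s T = true)
    (he : 0 < e) (hk : 0 < k) (hc0 : 0 < c) {m n : ℕ} {τ : ℤ} (hp : Pair k c e m n τ) {d X : ℕ} {w : ℤ}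
    (hres : Res r m n e (d : ℤ)) (hcon : (r : ℤ) ∣ n * w - s * τ) (hw : (d : ℤ) * w = nA * ((d : ℤ) - 4096 * X)) :
    ∃ a ∈ T, d % r ∈ a.1 ∧ X % r = a.2 * (d % r) % r := by
  obtain ⟨hm0, hn0, hme, hnk, hpar, hsq⟩ := hp
  have hmr : m < e + 1 := Nat.lt_succ_of_le (Nat.le_of_dvd he hme)
  have hnr : n < k + 1 := Nat.lt_succ_of_le (Nat.le_of_dvd hk hnk)
  have h1 := List.all_eq_true.1 (List.all_eq_true.1 hT m (List.mem_range.2 hmr)) n (List.mem_range.2 hnr)
  rw [Bool.or_eq_true] at h1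
  have h2 : ¬ ((m == 0 || n == 0 || e % m != 0 || k % n != 0) = true) := by
    have e1 : (m == 0) = false := by simp; omega
    have e2 : (n == 0) = false := by simp; omega
    have e3 : (e % m != 0) = false := by simp [Nat.mod_eq_zero_of_dvd hme]
    have e4 : (k % n != 0) = false := by simp [Nat.mod_eq_zero_of_dvd hnk]
    rw [e1, e2, e3, e4]
    simp
  have h3 := h1.resolve_left h2
  rw [Bool.and_eq_true] at h3
  obtain ⟨h4, h5⟩ := h3
  have hunit : ¬ r ∣ 4096 * n * nA := by
    intro h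
    rw [Nat.mod_eq_zero_of_dvd h] at h4
    exact absurd h4 (by decide)
  -- the value of `τ`
  have hc1 : -(c : ℤ) ≤ τ ∧ τ ≤ c := by
    rcases hsq with ⟨-, -, h⟩ | ⟨-, h⟩
    · subst h
      constructor <;> omega
    · have hm1 : (1 : ℤ) ≤ m := by exact_mod_cast hm0
      have h6 : τ * τ ≤ c := by nlinarith [mul_self_nonneg τ]
      constructor
      · by_contra h7
        push Not at h7
        nlinarith
      · by_contra h7
        push Not at h7
        nlinarith
  obtain ⟨j, hj⟩ : ∃ j : ℕ, (j : ℤ) = τ + c := ⟨(τ + c).toNat, Int.toNat_of_nonneg (by omega)⟩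
  have hjr : j < 2 * c + 1 := by omega
  have h6 := List.all_eq_true.1 h5 j (List.mem_range.2 hjr)
  rw [Bool.or_eq_true] at h6
  have hjc : (j : ℤ) - c = τ := by omega
  have h7 : ¬ (((n + j + c) % 2 != 0 || !((m == 1 && n == 1 && j == c + 1) ||
        (Nat.ble (m * (n * n) + 1) k && decide ((m : ℤ) * (((j : ℤ) - c) * ((j : ℤ) - c)) + 1 ≤ c)))) = true) := by
    have e1 : ((n + j + c) % 2 != 0) = false := by
      have : (n + j + c) % 2 = 0 := by omega
      simp [this]
    rw [e1, Bool.false_or, Bool.not_eq_true', Bool.eq_false_iff, not_not, Bool.or_eq_true]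
    rcases hsq with ⟨h8, h9, h10⟩ | ⟨h8, h9⟩
    · left
      have : j = c + 1 := by omega
      simp [h8, h9, this]
    · right
      rw [Bool.and_eq_true, Nat.ble_eq, decide_eq_true_eq, hjc]
      exact ⟨h8, h9⟩
  have h8 := h6.resolve_left h7
  rw [List.any_eq_true] at h8
  obtain ⟨a, ha, h9⟩ := h8
  simp only [Bool.and_eq_true, List.contains_iff_mem, decide_eq_true_eq] at h9
  obtain ⟨⟨⟨⟨m1, m2⟩, m3⟩, m4⟩, h10⟩ := h9
  refine ⟨a, ha, ?_, ?_⟩
  · rcases hres with h | h | h | h
    · have := mod_sub (r := r) (d := d) (a := m * n) (by push_cast; exact h)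
      rw [this]; exact m1
    · have := mod_add (r := r) (d := d) (a := m * n) hr.pos (by push_cast; exact h)
      rw [this]; exact m2
    · have := mod_sub (r := r) (d := d) (a := e * n) (by push_cast; exact h)
      rw [this]; exact m3
    · have := mod_add (r := r) (d := d) (a := e * n) hr.pos (by push_cast; exact h)
      rw [this]; exact m4
  · rw [hjc] at h10
    have h11 : (r : ℤ) ∣ (a.2 : ℤ) * (4096 * n * nA) + s * τ - n * nA := Int.dvd_of_emod_eq_zero h10
    have h12 : (r : ℤ) ∣ (4096 * n * nA : ℕ) * ((a.2 : ℤ) * d - X) := by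
      have h13 : ((4096 * n * nA : ℕ) : ℤ) * ((a.2 : ℤ) * d - X) =
          ((a.2 : ℤ) * (4096 * n * nA) + s * τ - n * nA) * d + (n * w - s * τ) * d := by
        push_cast
        linear_combination (-(n : ℤ)) * hw
      rw [h13]
      exact dvd_add (Dvd.dvd.mul_right h11 _) (Dvd.dvd.mul_right hcon _)
    have hpi : Prime (r : ℤ) := Nat.prime_iff_prime_int.1 hr
    have h14 : (r : ℤ) ∣ (a.2 : ℤ) * d - X := by
      rcases hpi.dvd_or_dvd h12 with h | h
      · exact absurd (by exact_mod_cast h) hunit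
      · exact h
    have h15 : (r : ℤ) ∣ (X : ℤ) - (a.2 * d : ℕ) := by
      have h16 : (X : ℤ) - (a.2 * d : ℕ) = -((a.2 : ℤ) * d - X) := by push_cast; ring
      rw [h16]
      exact (dvd_neg).2 h14
    rw [mod_sub h15, Nat.mul_mod, Nat.mul_mod a.2 (d % r), Nat.mod_mod]

/-- the order of the Monster -/
def NM : ℕ := 808017424794512875886459904961710757005754368000000000

theorem not_comm_MG : ¬ IsMulCommutative MG := by
  intro h
  have h1 : centralizer ({zz} : Set MG) = ⊤ := by
    rw [eq_top_iff]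
    intro g _
    rw [mem_centralizer_singleton_iff]
    exact h.is_comm.comm _ _
  have h2 := card_cent_z
  rw [h1, card_top, card_M] at h2
  norm_num at h2

/-- the numerical conditions of a column -/
def colOK (r k c e f s : ℕ) (T : List (List ℕ × ℕ)) : Bool :=
  eOK NM r k e f && sOK r k s nA && tabOK r k c e s T && Nat.beq (s * c) k && (4096 * nA) % r != 0 &&
    Nat.blt 0 e && Nat.blt 0 c && r != 2

/-- **A column of the Monster.** -/
theorem okX {r : ℕ} (hr : r.Prime) {k c e f s : ℕ} {T : List (List ℕ × ℕ)} (hcol : colOK r k c e f s T = true)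
    (hex : ∃ x : MG, orderOf x = r)
    (hC : ∀ x : MG, orderOf x = r → Nat.card (centralizer ({x} : Set MG)) = r * k)
    (hT : ∀ x t : MG, orderOf x = r → TA t → t * x = x * t →
      Nat.card (centralizer ({x} : Set MG) ⊓ centralizer ({t} : Set MG) : Subgroup MG) = r * c)
    (χ : IrrCharacter MG) {t : MG} (ht : TA t) {X : ℕ}
    (hX : (χ : MG → ℂ) t = (((charDegree (χ : MG → ℂ) : ℤ) - 4096 * X : ℤ) : ℂ)) :
    OkX r T (charDegree (χ : MG → ℂ)) X := by
  have hF : Fact r.Prime := ⟨hr⟩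
  simp only [colOK, Bool.and_eq_true, Nat.beq_eq, Nat.blt_eq, bne_iff_ne, ne_eq] at hcol
  obtain ⟨⟨⟨⟨⟨⟨⟨hnum, hs⟩, htab⟩, hcs⟩, hA⟩, he⟩, hc⟩, hr2⟩ := hcol
  obtain ⟨w, hw1, hw2⟩ := omega_int χ t hX
  rw [index_A ht] at hw2
  by_cases hd : r ∣ charDegree (χ : MG → ℂ)
  · left
    refine ⟨hd, ?_⟩
    have h1 : (r : ℤ) ∣ ((4096 * nA : ℕ) : ℤ) * (X : ℤ) := by
      have h2 : ((4096 * nA : ℕ) : ℤ) * (X : ℤ) = (charDegree (χ : MG → ℂ) : ℤ) * (nA - w) := by
        push_cast
        linear_combination hw2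
      rw [h2]
      exact Dvd.dvd.mul_right (by exact_mod_cast hd) _
    rcases (Nat.prime_iff_prime_int.1 hr).dvd_or_dvd h1 with h | h
    · exact absurd (Nat.mod_eq_zero_of_dvd (by exact_mod_cast h)) hA
    · exact_mod_cast h
  · right
    obtain ⟨x, hx⟩ := hex
    have hk : 0 < k := by
      rcases Nat.eq_zero_or_pos k with h0 | h0
      · have h1 := hC x hx
        rw [h0, mul_zero] at h1
        have := Nat.card_pos (α := centralizer ({x} : Set MG))
        omega
      · exact h0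
    have htt : t * t = 1 := by
      rw [← pow_two, ← H58.Cop.MLow.orderOf_ta ht, pow_orderOf_eq_one]
    obtain ⟨m, n, τ, hp, hres, hcon⟩ := weak not_comm_MG (N := NM) card_M hx (hC x hx) e f hnum htt hr2
      (index_A ht) hcs (fun u hu hux => hT x u hx (ta_of_isConj ht hu) hux) hs χ hd hw1
    exact okX_of_pair hr htab he hk hc hp hres hcon (by rw [hw2])

/-- **The residues of the degrees.** -/
theorem resX {r : ℕ} (hr : r.Prime) {k e f : ℕ} (hnum : eOK NM r k e f = true) {x : MG} (hx : orderOf x = r)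
    (hC : Nat.card (centralizer ({x} : Set MG)) = r * k) (χ : IrrCharacter MG) :
    r ∣ charDegree (χ : MG → ℂ) ∨ ∃ m n : ℕ, 0 < m ∧ 0 < n ∧ m ∣ e ∧ n ∣ k ∧ m * (n * n) ≤ k ∧
      (n ≠ 1 ∨ m ≠ 1 → m * (n * n) + 1 ≤ k) ∧ Res r m n e (charDegree (χ : MG → ℂ)) := by
  have hF : Fact r.Prime := ⟨hr⟩
  by_cases hd : r ∣ charDegree (χ : MG → ℂ)
  · exact Or.inl hd
  · exact Or.inr (residue not_comm_MG (N := NM) card_M hx hC e f hnum χ hd)

/-- the residues for a self-centralizing element -/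
theorem res_self {r : ℕ} (hr : r.Prime) {e f : ℕ} (hnum : eOK NM r 1 e f = true) {x : MG} (hx : orderOf x = r)
    (hC : Nat.card (centralizer ({x} : Set MG)) = r) (χ : IrrCharacter MG) :
    charDegree (χ : MG → ℂ) % r = 0 ∨ charDegree (χ : MG → ℂ) % r = 1 % r ∨
      charDegree (χ : MG → ℂ) % r = (r - 1 % r) % r ∨ charDegree (χ : MG → ℂ) % r = e % r ∨
      charDegree (χ : MG → ℂ) % r = (r - e % r) % r := by
  rcases resX hr hnum hx (by rw [hC, mul_one]) χ with h | ⟨m, n, hm, hn, -, -, h1, -, h2⟩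
  · exact Or.inl (Nat.mod_eq_zero_of_dvd h)
  · have hn1 : n = 1 := by
      have : n ≤ m * (n * n) := by nlinarith
      omega
    subst hn1
    have hm1 : m = 1 := by omega
    subst hm1
    right
    rcases h2 with h | h | h | h
    · left; exact mod_sub (a := 1) (by push_cast; simpa using h)
    · right; left; exact mod_add (a := 1) hr.pos (by push_cast; simpa using h)
    · right; right; left; exact mod_sub (a := e) (by simpa using h)
    · right; right; right; exact mod_add (a := e) hr.pos (by simpa using h)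

end Cfsg.Agent.H606.OreM
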