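import Cfsg.Agent.H606.OreM.Cert
import Cfsg.Agent.H455.OreM.Deg19
import Cfsg.Agent.H65.Ore.Split
import Cfsg.Agent.H777.Ore.Base

/-!
# The Monster: degrees prime to 59 and the sieve for commutators (helper606)

`degN` : the degrees `≡ ± 1 (59)` are at least `4962352590`; `degX` : the degrees `≡ ± 29 (59)` are at least
`6527402253`; `deg_ge` : all the degrees prime to 59; `sieve` : `|C(g)| ≤ KM → g` is a commutator.
The hypothesis `Loc` : `Cfsg.Agent.H455.OreM.Deg19.loc`.
-/

set_option autoImplicit false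
set_option maxRecDepth 100000

open Cfsg Subgroup

namespace Cfsg.Agent.H606.OreM

open Cfsg.Agent.BpSpor.MBigModel
open Cfsg.Agent.Characters.Core
open Cfsg.Agent.H606.OreM.Num
open Cfsg.Agent.H455.OreM.Deg19 (Loc)

theorem lst_prime : ∀ a ∈ lst, a.1.Prime := by
  intro a ha
  simp only [lst, List.mem_cons, List.not_mem_nil, or_false] at ha
  rcases ha with rfl | rfl | rfl | rfl | rfl | rfl | rfl | rfl | rfl | rfl | rfl | rfl | rfl | rfl <;>
    norm_num

theorem lst_prod : 59 * (lst.map fun a => a.1 ^ a.2).prod = 808017424794512875886459904961710757005754368000000000 := by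
  decide +kernel

theorem cert_false {dn dx d : ℕ} {T : List (ℕ × List (List ℕ × ℕ))}
    (h59 : ((d % 59 = 1 ∨ d % 59 = 58) ∧ d < dn) ∨ ((d % 59 = 29 ∨ d % 59 = 30) ∧ d < dx))
    (h71 : mem [0, 1, 35, 36, 70] (d % 71) = true) (h41 : mem [0, 1, 40] (d % 41) = true) (hmin : 196883 ≤ d)
    (ht : testD cA cB T d = false) : cert dn dx T d = false := by
  have hb : bit 288230377762324482 (d % 59) = true := by
    rcases h59 with ⟨h | h, -⟩ | ⟨h | h, -⟩ <;> rw [h] <;> decide +kernel
  have h1 : ((bit 288230376151711746 (d % 59) && Nat.blt d dn) || (bit 1610612736 (d % 59) && Nat.blt d dx)) = true := by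
    rw [Bool.or_eq_true, Bool.and_eq_true, Bool.and_eq_true, Nat.blt_eq, Nat.blt_eq]
    rcases h59 with ⟨h, h2⟩ | ⟨h, h2⟩
    · refine Or.inl ⟨?_, h2⟩
      rcases h with h | h <;> rw [h] <;> decide +kernel
    · refine Or.inr ⟨?_, h2⟩
      rcases h with h | h <;> rw [h] <;> decide +kernel
  have h2 : Nat.blt d 196883 = false := by
    rw [Bool.eq_false_iff]
    intro h
    rw [Nat.blt_eq] at h
    omega
  unfold cert
  rw [hb]
  show (!((bit 288230376151711746 (d % 59) && Nat.blt d dn) || (bit 1610612736 (d % 59) && Nat.blt d dx)) ||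
      !(mem [0, 1, 35, 36, 70] (d % 71)) || !(mem [0, 1, 40] (d % 41)) || Nat.blt d 196883 || testD cA cB T d) = false
  rw [h1, h71, h41, h2, ht]
  rfl

/-- the residues modulo 71 -/
theorem mem71 (L : Loc) (χ : IrrCharacter MG) : mem [0, 1, 35, 36, 70] (charDegree (χ : MG → ℂ) % 71) = true := by
  obtain ⟨x, hx⟩ := Cfsg.Agent.H455.OreM.Deg19.exists_order (r := 71) (by norm_num) (by norm_num)
  have h := res_self (r := 71) (e := 35) (f := 2) (by norm_num) (by decide +kernel) hx (L.c71 x hx) χ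
  rcases h with h | h | h | h | h <;> rw [h] <;> rfl

/-- the residues modulo 41 -/
theorem mem41 (L : Loc) (χ : IrrCharacter MG) : mem [0, 1, 40] (charDegree (χ : MG → ℂ) % 41) = true := by
  obtain ⟨x, hx⟩ := Cfsg.Agent.H455.OreM.Deg19.exists_order (r := 41) (by norm_num) (by norm_num)
  have h := res_self (r := 41) (e := 40) (f := 1) (by norm_num) (by decide +kernel) hx (L.c41 x hx) χ
  rcases h with h | h | h | h | h <;> rw [h] <;> rfl

theorem charDegree_pos (χ : IrrCharacter MG) : 0 < charDegree (χ : MG → ℂ) := by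
  obtain ⟨n, hn0, hn⟩ := isIrr_apply_one χ.2
  unfold charDegree
  rw [hn]
  simpa using hn0

/-- the core: no small degrees -/
theorem no_small (L : Loc) (χ : IrrCharacter MG) (hχ : (χ : MG → ℂ) ≠ 1)
    (h59 : ((charDegree (χ : MG → ℂ) % 59 = 1 ∨ charDegree (χ : MG → ℂ) % 59 = 58) ∧
        charDegree (χ : MG → ℂ) < 4962352590) ∨
      ((charDegree (χ : MG → ℂ) % 59 = 29 ∨ charDegree (χ : MG → ℂ) % 59 = 30) ∧
        charDegree (χ : MG → ℂ) < 6527402253)) : False := by
  have hpos := charDegree_pos χ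
  have hmin := min_deg χ hχ
  have hdvd : charDegree (χ : MG → ℂ) ∣ 59 * (lst.map fun a => a.1 ^ a.2).prod := by
    rw [lst_prod, ← card_M]
    exact Blocks.Knorr.charDegree_dvd χ.2
  have ht := Cfsg.Agent.H455.OreM.Deg19.testD_deg L χ
  have m71 := mem71 L χ
  have m41 := mem41 L χ
  generalize charDegree (χ : MG → ℂ) = d at *
  have hcop : Nat.Coprime d 59 := by
    refine (Nat.Coprime.symm ((Nat.Prime.coprime_iff_not_dvd (by norm_num)).2 ?_))
    intro h
    have := Nat.mod_eq_zero_of_dvd h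
    omega
  have hd := hcop.dvd_of_dvd_mul_left hdvd
  have h := chkL_spec (x := 1) cert_all lst_prime d hd hpos (by omega)
  rw [one_mul, cert_false h59 m71 m41 hmin ht] at h
  exact absurd h (by decide)

/-- **The degrees `≡ ± 1` modulo 59.** -/
theorem degN (L : Loc) (χ : IrrCharacter MG) (hχ : (χ : MG → ℂ) ≠ 1)
    (h : charDegree (χ : MG → ℂ) % 59 = 1 ∨ charDegree (χ : MG → ℂ) % 59 = 58) :
    4962352590 ≤ charDegree (χ : MG → ℂ) := by
  by_contra hlt
  push Not at hlt
  exact no_small L χ hχ (Or.inl ⟨h, hlt⟩)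

/-- **The degrees `≡ ± 29` modulo 59.** -/
theorem degX (L : Loc) (χ : IrrCharacter MG) (hχ : (χ : MG → ℂ) ≠ 1)
    (h : charDegree (χ : MG → ℂ) % 59 = 29 ∨ charDegree (χ : MG → ℂ) % 59 = 30) :
    6527402253 ≤ charDegree (χ : MG → ℂ) := by
  by_contra hlt
  push Not at hlt
  exact no_small L χ hχ (Or.inr ⟨h, hlt⟩)

/-- the residues modulo 59 -/
theorem mod59 (L : Loc) (χ : IrrCharacter MG) : charDegree (χ : MG → ℂ) % 59 = 0 ∨
    (charDegree (χ : MG → ℂ) % 59 = 1 ∨ charDegree (χ : MG → ℂ) % 59 = 58) ∨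
    (charDegree (χ : MG → ℂ) % 59 = 29 ∨ charDegree (χ : MG → ℂ) % 59 = 30) := by
  obtain ⟨x, hx⟩ := Cfsg.Agent.H455.OreM.Deg19.exists_order (r := 59) (by norm_num) (by norm_num)
  have h := res_self (r := 59) (e := 29) (f := 2) (by norm_num) (by decide +kernel) hx (L.c59 x hx) χ
  omega

/-- **The degrees prime to 59.** -/
theorem deg_ge (L : Loc) (χ : IrrCharacter MG) (hχ : (χ : MG → ℂ) ≠ 1) (h : ¬ 59 ∣ charDegree (χ : MG → ℂ)) :
    4962352590 ≤ charDegree (χ : MG → ℂ) := by
  rcases mod59 L χ with h0 | h1 | h2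
  · exact absurd (Nat.dvd_of_mod_eq_zero h0) h
  · exact degN L χ hχ h1
  · exact le_trans (by norm_num) (degX L χ hχ h2)

/-- the bound -/
def KM : ℕ := 85479523475148372

/-- **The sieve.** -/
theorem sieve (L : Loc) : ∀ g : MG, Nat.card (centralizer ({g} : Set MG)) ≤ KM → Cfsg.Agent.H777.Ore.IsC g := by
  intro g hg
  obtain ⟨x, hx⟩ := Cfsg.Agent.H455.OreM.Deg19.exists_order (r := 59) (by norm_num) (by norm_num)
  exact Cfsg.Agent.H65.Ore.comm_all not_comm_MG (p := 59) (by norm_num)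
    (N := 808017424794512875886459904961710757005754368000000000) card_M hx (L.c59 x hx) 29 2 479 (by decide +kernel)
    (DN := 4962352590) (DX := 6527402253) (degN L) (degX L) (by unfold KM; norm_num) (by norm_num) hg

end Cfsg.Agent.H606.OreM
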