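import Cfsg.Agent.H606.OreM.SmallC
import Cfsg.Agent.H606.OreM.Sieve

/-!
# The small degrees of the Monster (helper606)

`deg_small` : the degree of a nontrivial irreducible character is `196883`, `21296876` or at least `10^8`.
-/

set_option autoImplicit false
set_option maxRecDepth 100000

open Cfsg Subgroup

namespace Cfsg.Agent.H606.OreM

open Cfsg.Agent.BpSpor.MBigModel
open Cfsg.Agent.Characters.Core
open Cfsg.Agent.H606.OreM.Num
open Cfsg.Agent.H455.OreM.Deg19 (Loc)

theorem lstF_prime : ∀ a ∈ lstF, a.1.Prime := by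
  intro a ha
  simp only [lstF, List.mem_cons, List.not_mem_nil, or_false] at ha
  rcases ha with rfl | rfl | rfl | rfl | rfl | rfl | rfl | rfl | rfl | rfl | rfl | rfl | rfl | rfl | rfl <;>
    norm_num

theorem lstF_prod : (lstF.map fun a => a.1 ^ a.2).prod = 808017424794512875886459904961710757005754368000000000 := by
  decide +kernel

theorem mem59 (L : Loc) (χ : IrrCharacter MG) : bit 288230377762324483 (charDegree (χ : MG → ℂ) % 59) = true := by
  rcases mod59 L χ with h | (h | h) | (h | h) <;> rw [h] <;> decide +kernel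

/-- **The small degrees.** -/
theorem deg_small (L : Loc) (χ : IrrCharacter MG) (hχ : (χ : MG → ℂ) ≠ 1) :
    charDegree (χ : MG → ℂ) = 196883 ∨ charDegree (χ : MG → ℂ) = 21296876 ∨ 100000000 ≤ charDegree (χ : MG → ℂ) := by
  have hpos := charDegree_pos χ
  have hmin := min_deg χ hχ
  have hdvd : charDegree (χ : MG → ℂ) ∣ (lstF.map fun a => a.1 ^ a.2).prod := by
    rw [lstF_prod, ← card_M]
    exact Blocks.Knorr.charDegree_dvd χ.2
  have ht := Cfsg.Agent.H455.OreM.Deg19.testD_deg L χ
  have m71 := mem71 L χ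
  have m41 := mem41 L χ
  have m59 := mem59 L χ
  generalize charDegree (χ : MG → ℂ) = d at *
  by_contra hcon
  push Not at hcon
  obtain ⟨h1, h2, h3⟩ := hcon
  have h := chkL_spec (x := 1) certS_all lstF_prime d hdvd hpos (by omega)
  rw [one_mul] at h
  unfold certS at h
  rw [m59] at h
  replace h : (!(mem [0, 1, 35, 36, 70] (d % 71)) || !(mem [0, 1, 40] (d % 41)) || Nat.ble d 196883 ||
      Nat.beq d 21296876 || testD cA cB tabs d) = true := h
  have e1 : Nat.ble d 196883 = false := by
    rw [Bool.eq_false_iff]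
    intro h
    rw [Nat.ble_eq] at h
    omega
  have e2 : Nat.beq d 21296876 = false := by
    rw [Bool.eq_false_iff]
    intro h
    rw [Nat.beq_eq] at h
    omega
  rw [m71, m41, e1, e2, ht] at h
  exact absurd h (by decide)

/-- **The two smallest degrees.** -/
theorem deg_two (L : Loc) (χ : IrrCharacter MG) (hχ : (χ : MG → ℂ) ≠ 1) :
    charDegree (χ : MG → ℂ) = 196883 ∨ 21296876 ≤ charDegree (χ : MG → ℂ) := by
  rcases deg_small L χ hχ with h | h | h
  · exact Or.inl h
  · exact Or.inr h.ge
  · exact Or.inr (by omega)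

end Cfsg.Agent.H606.OreM
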