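import Cfsg.Agent.H606.OreM.Block
import Cfsg.Agent.H653.Sieve.Col
import Cfsg.Agent.SmallSimple.DihedralNormalizerSimple
import Cfsg.Agent.Blocks.OrbitCount

/-!
# The numerical conditions of a prime dividing the order of a simple group exactly once (helper606)

`residue` : the residues of the degrees; `weak` : the residues together with the value at an involution, from the order of
`C(x)` and the order of `C(x) ∩ C(t)` only.
-/

set_option autoImplicit false
set_option linter.unusedSectionVars false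

open Cfsg Subgroup
open scoped ComplexConjugate

namespace Cfsg.Agent.H606.OreM.Exact

open Cfsg.Agent.Characters.Core
open Cfsg.Agent.SmallSimple.ThetaSetup Cfsg.Agent.SmallSimple.ThetaOrtho
open Cfsg.Agent.SmallSimple.TheoremC Cfsg.Agent.SmallSimple.TheoremCCor
open Cfsg.Agent.SmallSimple.PrimeLocal
open Cfsg.Agent.H653.Sieve
open Cfsg.Agent.SmallSimple
open Cfsg.Agent.H606.OreM.Block

universe u

/-- The numerical conditions on `e = |N(P) : C(P)|`. -/
def eOK (N r k e t : ℕ) : Bool :=
  (r != 2) && (N % r == 0) && (N % (r ^ 2) != 0) && (e * t == r - 1) &&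
  ((List.range r).all fun e' => (e' == e) || ((r - 1) % e' != 0) || (N % (r * e' * k) != 0) ||
    ((N / (r * e' * k)) % r != 1))

variable {G : Type u} [Group G] [Finite G]

/-- The local data. -/
theorem exists_data [IsSimpleGroup G] (hG : ¬ IsMulCommutative G) {p : ℕ} [hp : Fact p.Prime] {N : ℕ}
    (hN : Nat.card G = N) {x : G} (hx : orderOf x = p) {k : ℕ} (hc : Nat.card (centralizer ({x} : Set G)) = p * k)
    (e t : ℕ) (hnum : eOK N p k e t = true) :
    ∃ (P : Sylow p G) (K : Subgroup G), Nat.card P = p ∧ (P : Subgroup G) = zpowers x ∧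
      IsComp p (P : Subgroup G) K ∧ Nat.card K = k ∧ e * t = p - 1 ∧
      (centralizer ((P : Subgroup G) : Set G)).relIndex (normalizer ((P : Subgroup G) : Set G)) = e := by
  classical
  simp only [eOK, Bool.and_eq_true, bne_iff_ne, beq_iff_eq, ne_eq] at hnum
  obtain ⟨⟨⟨⟨hp2, hN0⟩, hN1⟩, ht⟩, huniq⟩ := hnum
  have h1 : p ∣ Nat.card G := by rw [hN]; exact Nat.dvd_of_mod_eq_zero hN0
  have h2 : ¬ p ^ 2 ∣ Nat.card G := by
    rw [hN]; exact fun h => hN1 (Nat.mod_eq_zero_of_dvd h)
  -- the Sylow subgroup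
  have hpg : IsPGroup p (zpowers x) := IsPGroup.of_card (n := 1) (by rw [Nat.card_zpowers, hx, pow_one])
  obtain ⟨P, hxP⟩ := hpg.exists_le_sylow
  have hP : Nat.card P = p := card_of_not_sq_dvd h1 h2 P
  have hPx : (P : Subgroup G) = zpowers x := by
    have h3 : Nat.card (zpowers x) = Nat.card (P : Subgroup G) := by rw [Nat.card_zpowers, hx]; exact hP.symm
    exact (Subgroup.eq_of_le_of_card_ge hxP h3.ge).symm
  obtain ⟨e', K, hL⟩ := exists_local hG h1 h2 P
  have hCx : centralizer ((P : Subgroup G) : Set G) = centralizer ({x} : Set G) := by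
    rw [hPx, SmallSimple.SelfCentPrime.centralizer_zpowers]
  have hCP : Nat.card (centralizer ((P : Subgroup G) : Set G)) = p * k := by rw [hCx, hc]
  have hKk : Nat.card K = k := by
    have h3 : p * Nat.card K = p * k := by rw [← hL.card_centralizer]; exact hCP
    exact Nat.eq_of_mul_eq_mul_left hp.out.pos h3
  have hN' : Nat.card (normalizer ((P : Subgroup G) : Set G)) = p * e' * k := by
    have := hL.card_normalizer
    rw [hKk] at this
    exact this
  have hrel : (centralizer ((P : Subgroup G) : Set G)).relIndex (normalizer ((P : Subgroup G) : Set G)) = e' := by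
    have hle : centralizer ((P : Subgroup G) : Set G) ≤ normalizer ((P : Subgroup G) : Set G) :=
      centralizer_le_normalizer _
    have h3 := Subgroup.index_mul_card ((centralizer ((P : Subgroup G) : Set G)).subgroupOf
      (normalizer ((P : Subgroup G) : Set G)))
    rw [Nat.card_congr (Subgroup.subgroupOfEquivOfLe hle).toEquiv, hCP, hN'] at h3
    have hk : 0 < k := by rw [← hKk]; exact Nat.card_pos
    have h4 : 0 < p * k := Nat.mul_pos hp.out.pos hk
    apply Nat.eq_of_mul_eq_mul_right h4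
    rw [Subgroup.relIndex, h3]; ring
  have hee : e' = e := by
    by_contra hne
    have hlt : e' < p := by
      have := Nat.le_of_dvd (by have := hp.out.two_le; omega) hL.dvd_pred
      have := hp.out.two_le
      omega
    have h3 := List.all_eq_true.1 huniq e' (List.mem_range.2 hlt)
    have hce := hL.card_eq
    rw [hKk, hN] at hce
    have hpos : 0 < p * e' * k := by
      have hk : 0 < k := by rw [← hKk]; exact Nat.card_pos
      have he1 := hL.one_lt
      exact Nat.mul_pos (Nat.mul_pos hp.out.pos (by omega)) hk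
    have h4 : N % (p * e' * k) = 0 := by rw [hce]; exact Nat.mul_mod_left _ _
    have h5 : N / (p * e' * k) = Nat.card (Sylow p G) := by rw [hce]; exact Nat.mul_div_cancel _ hpos
    have h6 : Nat.card (Sylow p G) % p = 1 := by
      have h7 := card_sylow_modEq_one p G
      have h8 : Nat.card (Sylow p G) % p = 1 % p := h7
      rw [h8, Nat.mod_eq_of_lt hp.out.one_lt]
    have h7 : (p - 1) % e' = 0 := Nat.mod_eq_zero_of_dvd hL.dvd_pred
    simp only [Bool.or_eq_true, beq_iff_eq, bne_iff_ne, ne_eq] at h3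
    rcases h3 with ((h3 | h3) | h3) | h3
    · exact hne h3
    · exact h3 h7
    · exact h3 h4
    · rw [h5] at h3; exact h3 h6
  subst hee
  obtain ⟨K', hK'⟩ := exists_isComp P hP
  have hK'c : Nat.card K' = k := by
    have h3 := SmallSimple.ThetaOrtho.card_centralizer hK' hP
    rw [hCP] at h3
    exact (Nat.eq_of_mul_eq_mul_left hp.out.pos h3).symm
  exact ⟨P, K', hP, hPx, hK', hK'c, ht, hrel⟩

/-- the residue of the degree -/
def Res (p m n e : ℕ) (d : ℤ) : Prop :=
  (p : ℤ) ∣ d - m * n ∨ (p : ℤ) ∣ d + m * n ∨ (p : ℤ) ∣ d - e * n ∨ (p : ℤ) ∣ d + e * n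

/-- **The residues of the degrees.** -/
theorem residue [IsSimpleGroup G] (hG : ¬ IsMulCommutative G) {p : ℕ} [hp : Fact p.Prime] {N : ℕ}
    (hN : Nat.card G = N) {x : G} (hx : orderOf x = p) {k : ℕ} (hc : Nat.card (centralizer ({x} : Set G)) = p * k)
    (e t : ℕ) (hnum : eOK N p k e t = true) (χ : IrrCharacter G) (hχ : ¬ p ∣ charDegree (χ : G → ℂ)) :
    ∃ m n : ℕ, 0 < m ∧ 0 < n ∧ m ∣ e ∧ n ∣ k ∧ m * (n * n) ≤ k ∧ (n ≠ 1 ∨ m ≠ 1 → m * (n * n) + 1 ≤ k) ∧
      Res p m n e (charDegree (χ : G → ℂ)) := by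
  classical
  have := finite_irr (G := G)
  have := Fintype.ofFinite (IrrCharacter G)
  obtain ⟨P, K, hP, hPx, hK, hKk, ht, hrel⟩ := exists_data hG hN hx hc e t hnum
  obtain ⟨θ, m, n, hm, hn, hm0, hn0, hme, hnk, hres, -⟩ := exists_theta hK hP hrel ht χ hχ
  have hsq := orb_sq_le hK θ.2
  have hdeg : charDegree (θ : K → ℂ) = n := by
    unfold charDegree
    rw [hn]; simp
  rw [hdeg, hKk, ← hm] at hsq
  exact ⟨m, n, hm0, hn0, hme, by rw [← hKk]; exact hnk, hsq.1, hsq.2, hres⟩

/-! ### The value at an involution -/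

theorem value_invol {K : Type*} [Group K] [Finite K] (θ : IrrCharacter K) {t : K} (ht : t * t = 1) {n : ℕ}
    (hn : (θ : K → ℂ) 1 = n) : ∃ τ : ℤ, (θ : K → ℂ) t = τ ∧ (2 : ℤ) ∣ n - τ := by
  obtain ⟨f, ρ, hρ, hρχ⟩ := id θ.2
  have hf : f = n := by
    have : (f : ℂ) = n := by rw [← hn, ← hρχ]; simp
    exact_mod_cast this
  subst hf
  obtain ⟨m, -, hm, -⟩ := DihedralNormalizerSimple.exists_of_involution ρ t ht
  exact ⟨(f : ℤ) - 2 * m, by rw [← hρχ, hm]; push_cast; ring, ⟨m, by ring⟩⟩

/-- the centralizer in the complement -/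
theorem card_cent_comp {p : ℕ} [hp : Fact p.Prime] {P : Sylow p G} {K : Subgroup G}
    (hK : IsComp p (P : Subgroup G) K) (hP : Nat.card P = p) {x : G} (hPx : (P : Subgroup G) = zpowers x) (c : K) :
    Nat.card (centralizer ({x} : Set G) ⊓ centralizer ({(c : G)} : Set G) : Subgroup G) =
      p * Nat.card (centralizer ({c} : Set K)) := by
  have hCx : centralizer ((P : Subgroup G) : Set G) = centralizer ({x} : Set G) := by
    rw [hPx, SmallSimple.SelfCentPrime.centralizer_zpowers]
  have hq : Nat.card (Prod ↥(P : Subgroup G) ↥(centralizer ({c} : Set K))) =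
      p * Nat.card (centralizer ({c} : Set K)) := by
    rw [Nat.card_prod]
    exact congrArg (· * _) hP
  rw [← hCx, ← hq]
  symm
  refine Nat.card_congr (Equiv.ofBijective
    (fun a : Prod ↥(P : Subgroup G) ↥(centralizer ({c} : Set K)) => (⟨(a.1 : G) * ((a.2 : K) : G), ?_⟩ :
      (centralizer ((P : Subgroup G) : Set G) ⊓ centralizer ({(c : G)} : Set G) : Subgroup G))) ⟨?_, ?_⟩)
  · refine ⟨mul_mem (le_centralizer hP a.1.2) (hK.le (a.2 : K).2), ?_⟩
    show (a.1 : G) * ((a.2 : K) : G) ∈ centralizer ({(c : G)} : Set G)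
    rw [mem_centralizer_singleton_iff]
    have h1 := hK.comm a.1.2 c.2
    have h2 : (a.2 : K) * c = c * (a.2 : K) := mem_centralizer_singleton_iff.1 a.2.2
    have h3 : ((a.2 : K) : G) * c = c * ((a.2 : K) : G) := congrArg Subtype.val h2
    calc (a.1 : G) * ((a.2 : K) : G) * c = (a.1 : G) * (((a.2 : K) : G) * c) := by group
      _ = ((a.1 : G) * c) * ((a.2 : K) : G) := by rw [h3]; group
      _ = c * ((a.1 : G) * ((a.2 : K) : G)) := by rw [h1]; group
  · rintro ⟨u, v⟩ ⟨u', v'⟩ h
    have h1 : (u : G) * ((v : K) : G) = (u' : G) * ((v' : K) : G) := congrArg Subtype.val h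
    have h2 : (u' : G)⁻¹ * (u : G) ∈ K := by
      have h3 : (u' : G)⁻¹ * (u : G) = ((v' : K) : G) * ((v : K) : G)⁻¹ := by
        calc (u' : G)⁻¹ * (u : G) = (u' : G)⁻¹ * ((u : G) * ((v : K) : G)) * ((v : K) : G)⁻¹ := by group
          _ = (u' : G)⁻¹ * ((u' : G) * ((v' : K) : G)) * ((v : K) : G)⁻¹ := by rw [h1]
          _ = _ := by group
      rw [h3]
      exact mul_mem (v' : K).2 (inv_mem (v : K).2)
    have h3 := hK.disjoint hP (mul_mem (inv_mem u'.2) u.2) h2
    have h4 : (u : G) = u' := (inv_mul_eq_one.1 h3).symm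
    rw [h4] at h1
    have h5 := mul_left_cancel h1
    exact Prod.ext (Subtype.ext h4) (Subtype.ext (Subtype.ext h5))
  · rintro ⟨g, hg1, hg2⟩
    obtain ⟨u, hu, v, hv, huv⟩ := hK.exists_mul hP hg1
    refine ⟨(⟨u, hu⟩, ⟨⟨v, hv⟩, ?_⟩), Subtype.ext huv⟩
    rw [mem_centralizer_singleton_iff]
    apply Subtype.ext
    show v * (c : G) = (c : G) * v
    have h1 : g * c = c * g := mem_centralizer_singleton_iff.1 hg2
    have h2 := hK.comm hu c.2
    rw [← huv] at h1
    have h3 : u * (v * c) = u * (c * v) := by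
      calc u * (v * c) = u * v * c := by group
        _ = c * (u * v) := h1
        _ = (c * u) * v := by group
        _ = (u * c) * v := by rw [h2]
        _ = u * (c * v) := by group
    exact mul_left_cancel h3

/-- The numerical condition on the number of the involutions: `idx = |G : C(t)|`, `s = k / c`. -/
def sOK (r k s idx : ℕ) : Bool :=
  (idx % r != 0) && (List.range (k + 1)).all fun j => (j == 1) || (k < j * s) || ((j * s) % r != idx % r)

/-- number of the elements of a class in the local group -/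
theorem class_single {p : ℕ} [hp : Fact p.Prime] {P : Sylow p G} {K : Subgroup G}
    (hK : IsComp p (P : Subgroup G) K) (hP : Nat.card P = p) {x : G} (hPx : (P : Subgroup G) = zpowers x) {k c s idx : ℕ}
    (hKk : Nat.card K = k) (hcs : s * c = k) {t : G} (ht : ¬ p ∣ orderOf t)
    (hidx : (centralizer ({t} : Set G)).index = idx)
    (hT : ∀ u : G, IsConj t u → u * x = x * u →
      Nat.card (centralizer ({x} : Set G) ⊓ centralizer ({u} : Set G) : Subgroup G) = p * c)
    (hs : sOK p k s idx = true) :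
    ∃ t0 : K, IsConj t (t0 : G) ∧ (∀ c' : K, IsConj t (c' : G) ↔ IsConj t0 c') ∧
      Nat.card (centralizer ({t0} : Set K)) = c ∧ (centralizer ({t0} : Set K)).index = s := by
  classical
  have hGf := Fintype.ofFinite G
  have hKf := Fintype.ofFinite K
  have hk0 : 0 < k := by rw [← hKk]; exact Nat.card_pos
  have hc0 : 0 < c := by
    rcases Nat.eq_zero_or_pos c with h | h
    · rw [h, mul_zero] at hcs; omega
    · exact h
  have hs0 : 0 < s := by
    rcases Nat.eq_zero_or_pos s with h | h
    · rw [h, zero_mul] at hcs; omega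
    · exact h
  simp only [sOK, Bool.and_eq_true, bne_iff_ne, ne_eq] at hs
  obtain ⟨hidx0, hall⟩ := hs
  -- the centralizer of an element of the class
  have hcc : ∀ c' : K, IsConj t (c' : G) → Nat.card (centralizer ({c'} : Set K)) = c := by
    intro c' hc'
    have h1 := card_cent_comp hK hP hPx c'
    have hcx : (c' : G) * x = x * c' := by
      have hx : x ∈ (P : Subgroup G) := by rw [hPx]; exact mem_zpowers x
      exact (hK.comm hx c'.2).symm
    rw [hT c' hc' hcx] at h1
    exact (Nat.eq_of_mul_eq_mul_left hp.out.pos h1).symm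
  have hci : ∀ c' : K, IsConj t (c' : G) → (centralizer ({c'} : Set K)).index = s := by
    intro c' hc'
    have h1 := (centralizer ({c'} : Set K)).card_mul_index
    rw [hcc c' hc', hKk, ← hcs, mul_comm s c] at h1
    exact Nat.eq_of_mul_eq_mul_left hc0 h1
  -- the number of the elements
  set F : Finset K := Finset.univ.filter (fun c' : K => IsConj t (c' : G)) with hF
  have hmod : F.card % p = idx % p := by
    obtain ⟨a, ha⟩ := Cfsg.Agent.Blocks.OrbitSum.sum_eq_sum_centralizer_add_smul (P : Subgroup G) P.isPGroup'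
      (fun u => if IsConj t u then (1 : ℤ) else 0) (by
        intro v _ u
        have h1 : IsConj t (v * u * v⁻¹) ↔ IsConj t u := by
          constructor
          · intro h
            exact h.trans (isConj_iff.2 ⟨v⁻¹, by group⟩)
          · intro h
            exact h.trans (isConj_iff.2 ⟨v, rfl⟩)
        simp only [h1])
    rw [Finset.sum_boole, ← Finset.sum_filter, Finset.filter_filter, Finset.sum_const,
      Cfsg.Agent.Characters.ClassMul.card_filter_isConj, hidx] at ha
    have h2 : (Finset.univ.filter fun u : G => u ∈ centralizer ((P : Subgroup G) : Set G) ∧ IsConj t u).card =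
        F.card := by
      symm
      refine Finset.card_bij (fun (c' : K) _ => (c' : G)) ?_ ?_ ?_
      · intro c' hc'
        rw [Finset.mem_filter] at hc' ⊢
        exact ⟨Finset.mem_univ _, hK.le c'.2, hc'.2⟩
      · intro c' _ c'' _ h
        exact Subtype.ext h
      · intro u hu
        rw [Finset.mem_filter] at hu
        obtain ⟨-, hu1, hu2⟩ := hu
        have huo : ¬ p ∣ orderOf u := by
          obtain ⟨g, hg⟩ := isConj_iff.1 hu2
          have h2 : orderOf (g * t * g⁻¹) = orderOf t := by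
            have := orderOf_injective (MulAut.conj g).toMonoidHom (MulAut.conj g).injective t
            simpa using this
          rw [← hg, h2]
          exact ht
        exact ⟨⟨u, (hK u).2 ⟨hu1, huo⟩⟩, by rw [Finset.mem_filter]; exact ⟨Finset.mem_univ _, hu2⟩, rfl⟩
    rw [h2] at ha
    simp only [nsmul_eq_mul, mul_one] at ha
    have h3 : ((F.card : ℕ) : ℤ) ≡ ((idx : ℕ) : ℤ) [ZMOD p] := by
      rw [Int.modEq_iff_dvd]
      refine ⟨a, ?_⟩
      push_cast at ha ⊢
      linarith
    have h4 : ((F.card : ℕ) : ℤ) % p = ((idx : ℕ) : ℤ) % p := h3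
    exact_mod_cast h4
  -- nonempty
  have hne : F.Nonempty := by
    rw [Finset.nonempty_iff_ne_empty]
    intro h
    rw [h, Finset.card_empty, Nat.zero_mod] at hmod
    exact hidx0 hmod.symm
  obtain ⟨t0, ht0⟩ := hne
  have ht0' : IsConj t (t0 : G) := (Finset.mem_filter.1 ht0).2
  -- conjugate elements of `K`
  have hconj : ∀ c' c'' : K, IsConj c' c'' → IsConj (c' : G) (c'' : G) := by
    intro c' c'' h
    obtain ⟨g, hg⟩ := isConj_iff.1 h
    exact isConj_iff.2 ⟨g, congrArg Subtype.val hg⟩
  -- `s` divides the number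
  have hsdvd : s ∣ F.card := by
    let _ : MulAction K F :=
      { smul := fun g c' => ⟨g * c'.1 * g⁻¹, Finset.mem_filter.2
          ⟨Finset.mem_univ _, ((Finset.mem_filter.1 c'.2).2).trans (hconj _ _ (isConj_iff.2 ⟨g, rfl⟩))⟩⟩
        one_smul := fun c' => Subtype.ext (by show 1 * c'.1 * 1⁻¹ = c'.1; group)
        mul_smul := fun g h c' => Subtype.ext (by
          show g * h * c'.1 * (g * h)⁻¹ = g * (h * c'.1 * h⁻¹) * g⁻¹
          group) }
    have h1 := Cfsg.Agent.Blocks.OrbitCount.dvd_card_of_forall_orbit (P := K) (X := F) s (by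
      intro c'
      have h2 : Nat.card (MulAction.orbit K c') = (MulAction.stabilizer K c').index := by
        rw [MulAction.index_stabilizer]
        rfl
      have h3 : MulAction.stabilizer K c' = centralizer ({c'.1} : Set K) := by
        ext g
        rw [MulAction.mem_stabilizer_iff, mem_centralizer_singleton_iff]
        constructor
        · intro h
          have h4 : g * c'.1 * g⁻¹ = c'.1 := congrArg Subtype.val h
          calc g * c'.1 = (g * c'.1 * g⁻¹) * g := by group
            _ = c'.1 * g := by rw [h4]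
        · intro h
          refine Subtype.ext ?_
          show g * c'.1 * g⁻¹ = c'.1
          rw [h]
          group
      rw [h2, h3, hci _ (Finset.mem_filter.1 c'.2).2])
    rwa [Nat.card_eq_fintype_card, Fintype.card_coe] at h1
  obtain ⟨j, hj⟩ := hsdvd
  have hFk : F.card ≤ k := by
    rw [← hKk, Nat.card_eq_fintype_card]
    exact Finset.card_le_univ _
  have hjk : j < k + 1 := by
    have : j ≤ s * j := Nat.le_mul_of_pos_left j hs0
    omega
  have h1 := List.all_eq_true.1 hall j (List.mem_range.2 hjk)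
  simp only [Bool.or_eq_true, beq_iff_eq, decide_eq_true_eq, bne_iff_ne, ne_eq] at h1
  have hj1 : j = 1 := by
    rcases h1 with (h1 | h1) | h1
    · exact h1
    · rw [mul_comm j s, ← hj] at h1
      omega
    · rw [mul_comm j s, ← hj] at h1
      exact absurd hmod h1
  have hFs : F.card = s := by rw [hj, hj1, mul_one]
  -- the class of `t0`
  have hcls : (Finset.univ.filter (IsConj t0)).card = s := by
    rw [← hci t0 ht0', ← Cfsg.Agent.Characters.ClassMul.card_filter_isConj]
    congr 1
    ext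
    simp
  have hsub : Finset.univ.filter (IsConj t0) ⊆ F := by
    intro c' hc'
    rw [Finset.mem_filter] at hc'
    rw [hF, Finset.mem_filter]
    exact ⟨Finset.mem_univ _, ht0'.trans (hconj _ _ hc'.2)⟩
  have heq := Finset.eq_of_subset_of_card_le hsub (by rw [hFs, hcls])
  refine ⟨t0, ht0', fun c' => ⟨fun h => ?_, fun h => ht0'.trans (hconj _ _ h)⟩, hcc t0 ht0', hci t0 ht0'⟩
  have h2 : c' ∈ F := by rw [hF, Finset.mem_filter]; exact ⟨Finset.mem_univ _, h⟩
  rw [← heq, Finset.mem_filter] at h2
  exact h2.2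

/-- the conditions of a pair -/
structure Pair (k c e m n : ℕ) (τ : ℤ) : Prop where
  m0 : 0 < m
  n0 : 0 < n
  me : m ∣ e
  nk : n ∣ k
  par : (2 : ℤ) ∣ n - τ
  sq : (m = 1 ∧ n = 1 ∧ τ = 1) ∨ (m * (n * n) + 1 ≤ k ∧ (m : ℤ) * (τ * τ) + 1 ≤ c)

/-- **The value at an involution.** -/
theorem weak [IsSimpleGroup G] (hG : ¬ IsMulCommutative G) {p : ℕ} [hp : Fact p.Prime] {N : ℕ}
    (hN : Nat.card G = N) {x : G} (hx : orderOf x = p) {k : ℕ} (hc : Nat.card (centralizer ({x} : Set G)) = p * k)
    (e f : ℕ) (hnum : eOK N p k e f = true) {t : G} (ht : t * t = 1) (hp2 : p ≠ 2) {c s idx : ℕ}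
    (hidx : (centralizer ({t} : Set G)).index = idx) (hcs : s * c = k)
    (hT : ∀ u : G, IsConj t u → u * x = x * u →
      Nat.card (centralizer ({x} : Set G) ⊓ centralizer ({u} : Set G) : Subgroup G) = p * c)
    (hs : sOK p k s idx = true) (χ : IrrCharacter G) (hχ : ¬ p ∣ charDegree (χ : G → ℂ)) {w : ℤ}
    (hw : ((centralizer ({t} : Set G)).index : ℂ) * (χ : G → ℂ) t / (χ : G → ℂ) 1 = w) :
    ∃ (m n : ℕ) (τ : ℤ), Pair k c e m n τ ∧ Res p m n e (charDegree (χ : G → ℂ)) ∧ (p : ℤ) ∣ n * w - s * τ := by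
  classical
  have := finite_irr (G := G)
  have := Fintype.ofFinite (IrrCharacter G)
  obtain ⟨P, K, hP, hPx, hK, hKk, hef, hrel⟩ := exists_data hG hN hx hc e f hnum
  have := finite_irr (G := K)
  have := Fintype.ofFinite (IrrCharacter K)
  have hKf := Fintype.ofFinite K
  have hto : ¬ p ∣ orderOf t := by
    intro h
    have h1 : orderOf t ∣ 2 := orderOf_dvd_of_pow_eq_one (by rw [pow_two, ht])
    exact hp2 ((Nat.prime_dvd_prime_iff_eq hp.out Nat.prime_two).1 (h.trans h1))
  obtain ⟨t0, ht0, hS, hct0, hit0⟩ := class_single hK hP hPx hKk hcs hto hidx hT hs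
  obtain ⟨θ, m, n, hm, hn, hm0, hn0, hme, hnk, hres, x', -, hnd⟩ := exists_theta hK hP hrel hef χ hχ
  have htt : t0 * t0 = 1 := by
    obtain ⟨g, hg⟩ := isConj_iff.1 ht0
    apply Subtype.ext
    show (t0 : G) * t0 = 1
    rw [← hg]
    calc g * t * g⁻¹ * (g * t * g⁻¹) = g * (t * t) * g⁻¹ := by group
      _ = 1 := by rw [ht]; group
  obtain ⟨τ, hτ, hpar⟩ := value_invol θ htt hn
  have hcon := central_congr hK hP χ θ hnd hto hS hw hτ hn
  rw [hit0] at hcon
  refine ⟨m, n, τ, ⟨hm0, hn0, hme, by rw [← hKk]; exact hnk, hpar, ?_⟩, hres, hcon⟩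
  -- the inequalities
  have hsq := orb_sq_le hK θ.2
  have hdeg : charDegree (θ : K → ℂ) = n := by
    unfold charDegree
    rw [hn]; simp
  rw [hdeg, hKk, ← hm] at hsq
  by_cases hθ1 : (θ : K → ℂ) = 1
  · left
    have h1 : n = 1 := by
      have : (n : ℂ) = 1 := by rw [← hn, hθ1]; simp
      exact_mod_cast this
    have h2 : τ = 1 := by
      have : (τ : ℂ) = 1 := by rw [← hτ, hθ1]; simp
      exact_mod_cast this
    have h3 : orb P K (θ : K → ℂ) = {θ} := by
      have := orb_of_stable (P := P) θ.2 (fun g hg => by rw [hθ1]; exact tw_one_char hK hg)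
      exact this
    exact ⟨by rw [hm, h3, Finset.card_singleton], h1, h2⟩
  · right
    let o : IrrCharacter K := ⟨1, isIrr_one⟩
    have ho : o ∉ orb P K (θ : K → ℂ) := by
      intro ho
      obtain ⟨g, hg, h⟩ := mem_orb.1 ho
      apply hθ1
      have h2 : tw (tw (θ : K → ℂ) g) g⁻¹ = θ := by
        rw [← tw_mul hK _ hg (inv_mem hg), mul_inv_cancel, tw_one]
      have h3 : tw (θ : K → ℂ) g = 1 := h
      rw [← h2, h3]
      exact tw_one_char hK (inv_mem hg)
    have hd : ∀ θ' ∈ orb P K (θ : K → ℂ), (θ' : K → ℂ) t0 = τ := by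
      intro θ' h
      obtain ⟨g, hg, h'⟩ := mem_orb.1 h
      rw [← h', tw_apply hK _ hg, ← hτ]
      have h4 : IsConj t ((⟨g * t0 * g⁻¹, conj_mem hK hg t0.2⟩ : K) : G) :=
        ht0.trans (isConj_iff.2 ⟨g, rfl⟩)
      obtain ⟨b, hb⟩ := isConj_iff.1 ((hS _).1 h4)
      rw [← hb, isIrr_isClassFunction θ.2]
    constructor
    · -- degrees
      have hsum := SmallSimple.DegreeData.sum_sq (G := K)
      have hdd : ∀ θ' ∈ orb P K (θ : K → ℂ), charDegree (θ' : K → ℂ) = n := by
        intro θ' h
        rw [← hdeg]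
        unfold charDegree
        rw [orb_apply_one hK h]
      have h2 : ∑ θ' ∈ insert o (orb P K (θ : K → ℂ)), charDegree (θ' : K → ℂ) ^ 2 ≤ Nat.card K := by
        rw [← hsum]
        exact Finset.sum_le_sum_of_subset (Finset.subset_univ _)
      rw [Finset.sum_insert ho, Finset.sum_congr rfl fun θ' h => by rw [hdd θ' h], Finset.sum_const, smul_eq_mul,
        ← hm, hKk] at h2
      have hc' : charDegree (o : K → ℂ) = 1 := by
        unfold charDegree
        simp [o]
      rw [hc'] at h2
      nlinarith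
    · -- values
      have h1 := S0145.sum_irr_mul_conj t0 t0
      rw [if_pos (IsConj.refl _), hct0] at h1
      have h2 : ∀ θ' : IrrCharacter K, ∃ r : ℝ, 0 ≤ r ∧ (θ' : K → ℂ) t0 * conj ((θ' : K → ℂ) t0) = r := by
        intro θ'
        exact ⟨Complex.normSq ((θ' : K → ℂ) t0), Complex.normSq_nonneg _, Complex.mul_conj _⟩
      choose r hr0 hr using h2
      rw [Finset.sum_congr rfl fun θ' _ => hr θ', ← Complex.ofReal_sum] at h1
      have h3 : ∑ θ' : IrrCharacter K, r θ' = (c : ℝ) := by exact_mod_cast h1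
      have h4 : ∑ θ' ∈ insert o (orb P K (θ : K → ℂ)), r θ' ≤ c := by
        rw [← h3]
        exact Finset.sum_le_sum_of_subset_of_nonneg (Finset.subset_univ _) fun θ' _ _ => hr0 θ'
      have h5 : ∀ θ' ∈ orb P K (θ : K → ℂ), r θ' = (τ : ℝ) * τ := by
        intro θ' h
        have h6 := hr θ'
        rw [hd θ' h] at h6
        have h7 : ((τ : ℝ) * τ : ℂ) = r θ' := by rw [← h6]; simp
        exact_mod_cast h7.symm
      have h6 : r o = 1 := by
        have h7 := hr o
        have h8 : (o : K → ℂ) t0 = 1 := rfl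
        rw [h8] at h7
        have h9 : ((1 : ℝ) : ℂ) = r o := by rw [← h7]; simp
        exact_mod_cast h9.symm
      rw [Finset.sum_insert ho, Finset.sum_congr rfl h5, Finset.sum_const, h6, nsmul_eq_mul, ← hm] at h4
      have h7 : (m : ℤ) * (τ * τ) + 1 ≤ (c : ℤ) := by
        have : ((m : ℝ) * (τ * τ) + 1) ≤ c := by linarith
        exact_mod_cast this
      exact h7

end Cfsg.Agent.H606.OreM.Exact
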