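import Cfsg.Agent.H606.OreM.CertG
import Cfsg.Agent.H606.OreM.Sieve
import Cfsg.Agent.H626.LD.TwentyNine

/-!
# The Monster: the degrees prime to 59 and 41 are at least 16134478425 (helper606)
-/

set_option autoImplicit false
set_option maxRecDepth 100000

open Cfsg Subgroup

namespace Cfsg.Agent.H606.OreM

open Cfsg.Agent.BpSpor.MBigModel
open Cfsg.Agent.Characters.Core
open Cfsg.Agent.H606.OreM.Num
open Cfsg.Agent.H455.OreM.Deg19 (Loc)

theorem lstG_prime : ∀ a ∈ lstG, a.1.Prime := by
  intro a ha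
  simp only [lstG, lstE, List.mem_cons, List.not_mem_nil, or_false] at ha
  rcases ha with rfl | rfl | rfl | rfl | rfl | rfl | rfl | rfl | rfl | rfl | rfl | rfl | rfl <;>
    norm_num

theorem lstG_prod : 59 * (41 * (lstG.map fun a => a.1 ^ a.2).prod) =
    808017424794512875886459904961710757005754368000000000 := by
  decide +kernel

/-- the residues modulo 29 -/
theorem mem29 (χ : IrrCharacter MG) : mem [0, 1, 2, 27, 28] (charDegree (χ : MG → ℂ) % 29) = true := by
  have hF : Fact (Nat.Prime 29) := ⟨by norm_num⟩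
  by_cases h0 : 29 ∣ charDegree (χ : MG → ℂ)
  · rw [Nat.mod_eq_zero_of_dvd h0]
    rfl
  · obtain ⟨x, hx⟩ := Cfsg.Agent.H455.OreM.Deg19.exists_order (r := 29) (by norm_num) (by norm_num)
    obtain ⟨m, n, hm0, hn0, -, -, hmn, hmn', hres⟩ := Cfsg.Agent.H606.OreM.Exact.residue not_comm_MG (N := NM) card_M hx (k := 3)
      ((Cfsg.Agent.H626.LD.TwentyNine.card_cent hx).trans (by norm_num)) 28 1 (by decide +kernel) χ h0
    have hn1 : n = 1 := by
      by_contra hn
      have h2 : 2 ≤ n := by omega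
      have h3 : 4 ≤ n * n := by nlinarith
      have h4 : n * n ≤ m * (n * n) := Nat.le_mul_of_pos_left _ hm0
      omega
    subst hn1
    have hm2 : m ≤ 2 := by
      by_contra hm
      have := hmn' (Or.inr (by omega))
      omega
    unfold Cfsg.Agent.H606.OreM.Exact.Res at hres
    have key : charDegree (χ : MG → ℂ) % 29 = 1 ∨ charDegree (χ : MG → ℂ) % 29 = 2 ∨
        charDegree (χ : MG → ℂ) % 29 = 27 ∨ charDegree (χ : MG → ℂ) % 29 = 28 := by
      generalize charDegree (χ : MG → ℂ) = d at *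
      have e29 : ((29 : ℕ) : ℤ) = 29 := rfl
      rw [e29] at hres
      have hm12 : m = 1 ∨ m = 2 := by omega
      rcases hm12 with rfl | rfl <;> omega
    rcases key with h | h | h | h <;> rw [h] <;> rfl

/-- **The degrees prime to 59 and 41.** -/
theorem deg_59_41 (L : Loc) (χ : IrrCharacter MG) (hχ : (χ : MG → ℂ) ≠ 1) (h59 : ¬ 59 ∣ charDegree (χ : MG → ℂ))
    (h41 : ¬ 41 ∣ charDegree (χ : MG → ℂ)) : 16134478425 ≤ charDegree (χ : MG → ℂ) := by
  by_contra hlt
  push Not at hlt
  have hpos := charDegree_pos χ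
  have hmin := min_deg χ hχ
  have hdvd : charDegree (χ : MG → ℂ) ∣ 59 * (41 * (lstG.map fun a => a.1 ^ a.2).prod) := by
    rw [lstG_prod, ← card_M]
    exact Blocks.Knorr.charDegree_dvd χ.2
  have ht := Cfsg.Agent.H455.OreM.Deg19.testD_deg L χ
  have m71 := mem71 L χ
  have m41 := mem41 L χ
  have m29 := mem29 χ
  have m59 := mod59 L χ
  generalize charDegree (χ : MG → ℂ) = d at *
  have hc59 : Nat.Coprime d 59 := (Nat.Coprime.symm ((Nat.Prime.coprime_iff_not_dvd (by norm_num)).2 h59))
  have hc41 : Nat.Coprime d 41 := (Nat.Coprime.symm ((Nat.Prime.coprime_iff_not_dvd (by norm_num)).2 h41))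
  have hd := hc41.dvd_of_dvd_mul_left (hc59.dvd_of_dvd_mul_left hdvd)
  have h := chkL_spec (x := 1) certG_all lstG_prime d hd hpos (by omega)
  rw [one_mul] at h
  have m41' : mem [1, 40] (d % 41) = true := by
    rw [mem_iff] at m41 ⊢
    simp only [List.mem_cons, List.not_mem_nil, or_false] at m41 ⊢
    rcases m41 with h0 | h0
    · exact absurd (Nat.dvd_of_mod_eq_zero h0) h41
    · exact h0
  have hb : bit 288230377762324482 (d % 59) = true := by
    rcases m59 with h0 | (h0 | h0) | (h0 | h0)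
    · exact absurd (Nat.dvd_of_mod_eq_zero h0) h59
    all_goals rw [h0]; decide +kernel
  unfold certG at h
  rw [hb] at h
  replace h : (!(mem [1, 40] (d % 41)) || !(mem [0, 1, 2, 27, 28] (d % 29)) || !(mem [0, 1, 35, 36, 70] (d % 71)) ||
      Nat.blt d 196883 || testD cA cB tabs d) = true := h
  have e1 : Nat.blt d 196883 = false := by
    rw [Bool.eq_false_iff]
    intro h
    rw [Nat.blt_eq] at h
    omega
  rw [m41', m29, m71, e1, ht] at h
  exact absurd h (by decide)

end Cfsg.Agent.H606.OreM
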