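import Cfsg.Agent.H606.OreM.Lst

/-! # The certificate of the sieve for the Monster, part 2 (helper606) -/

set_option autoImplicit false
set_option maxRecDepth 100000
set_option Elab.async false

namespace Cfsg.Agent.H606.OreM.Num

theorem cb_29 : tst lstB 29 = true := by decide +kernel

theorem cb_667 : tst lstB 667 = true := by decide +kernel

theorem cb_31 : tst lstB 31 = true := by decide +kernel

end Cfsg.Agent.H606.OreM.Num
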