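import Cfsg.Agent.H606.OreM.Lst

/-! # The certificate of the sieve for the Monster, part 3 (helper606) -/

set_option autoImplicit false
set_option maxRecDepth 100000
set_option Elab.async false

namespace Cfsg.Agent.H606.OreM.Num

theorem cb_713 : tst lstB 713 = true := by decide +kernel

theorem cb_899 : tst lstB 899 = true := by decide +kernel

theorem cb_20677 : tst lstB 20677 = true := by decide +kernel

end Cfsg.Agent.H606.OreM.Num
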