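import Cfsg.Agent.H606.OreM.CertP1
import Cfsg.Agent.H606.OreM.CertP2
import Cfsg.Agent.H606.OreM.CertP3
import Cfsg.Agent.H606.OreM.CertP4
import Cfsg.Agent.H606.OreM.CertP5
import Cfsg.Agent.H606.OreM.CertP6
import Cfsg.Agent.H606.OreM.CertP7
import Cfsg.Agent.H606.OreM.CertP8
import Cfsg.Agent.H606.OreM.CertP9
import Cfsg.Agent.H606.OreM.CertP10

/-! # The certificate of the sieve for the Monster (helper606) -/

set_option autoImplicit false
set_option maxRecDepth 100000

namespace Cfsg.Agent.H606.OreM.Num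

theorem ca_1 : tst lstA 1 = true :=
  tst_cons (p := 31) rfl
    (tst_cons (p := 29) rfl
      (tst_cons (p := 23) rfl cb_1 cb_23)
      (tst_cons (p := 23) rfl cb_29 cb_667))
    (tst_cons (p := 29) rfl
      (tst_cons (p := 23) rfl cb_31 cb_713)
      (tst_cons (p := 23) rfl cb_899 cb_20677))

theorem ca_2911 : tst lstA 2911 = true :=
  tst_cons (p := 31) rfl
    (tst_cons (p := 29) rfl ce_2911 ce_84419) cd_90241

theorem cert_all : chkL 6527402252 lst (cert 4962352590 6527402253 tabs) 1 = true :=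
  tst_cons (p := 71) rfl
    (tst_cons (p := 47) rfl
      (tst_cons (p := 41) rfl ca_1 ca_41)
      (tst_cons (p := 41) rfl ca_47 ca_1927))
    (tst_cons (p := 47) rfl
      (tst_cons (p := 41) rfl ca_71 ca_2911)
      (tst_cons (p := 41) rfl ca_3337 ca_136817))

end Cfsg.Agent.H606.OreM.Num
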