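import Cfsg.Agent.H606.OreM.LstG

/-! # The certificate for the degrees prime to 59 and 41, part 5 (helper606) -/

set_option autoImplicit false
set_option maxRecDepth 100000
set_option Elab.async false

namespace Cfsg.Agent.H606.OreM.Num

theorem tg_2059 : tg lstE 2059 = true := by decide +kernel

theorem tg_2201 : tg lstE 2201 = true := by decide +kernel

theorem tg_63829 : tg lstE 63829 = true := by decide +kernel

theorem tg_3337 : tg lstE 3337 = true := by decide +kernel

theorem tg_96773 : tg lstE 96773 = true := by decide +kernel

theorem tg_103447 : tg lstE 103447 = true := by decide +kernel

theorem tg_2999963 : tg lstE 2999963 = true := by decide +kernel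

end Cfsg.Agent.H606.OreM.Num
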