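import Cfsg.Agent.H606.OreM.CertG1
import Cfsg.Agent.H606.OreM.CertG2
import Cfsg.Agent.H606.OreM.CertG3
import Cfsg.Agent.H606.OreM.CertG4
import Cfsg.Agent.H606.OreM.CertG5

/-! # The certificate for the degrees of the Monster prime to 59 and 41 (helper606) -/

set_option autoImplicit false
set_option maxRecDepth 100000

namespace Cfsg.Agent.H606.OreM.Num

/-- The prime factors of the order of the Monster, without 59 and 41. -/
def lstG : List (ℕ × ℕ) := (71, 1) :: (47, 1) :: (31, 1) :: (29, 1) :: lstE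

theorem certG_all : chkL 16134478424 lstG (certG tabs) 1 = true :=
  tg_cons (p := 71) rfl (tg_cons (p := 47) rfl (tg_cons (p := 31) rfl (tg_cons (p := 29) rfl tg_1 tg_29) (tg_cons (p := 29) rfl tg_31 tg_899)) (tg_cons (p := 31) rfl (tg_cons (p := 29) rfl tg_47 tg_1363) (tg_cons (p := 29) rfl tg_1457 tg_42253))) (tg_cons (p := 47) rfl (tg_cons (p := 31) rfl (tg_cons (p := 29) rfl tg_71 tg_2059) (tg_cons (p := 29) rfl tg_2201 tg_63829)) (tg_cons (p := 31) rfl (tg_cons (p := 29) rfl tg_3337 tg_96773) (tg_cons (p := 29) rfl tg_103447 tg_2999963)))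

end Cfsg.Agent.H606.OreM.Num
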