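import Cfsg.Agent.H606.OreM.Split

/-! # The certificate of the sieve for the Monster, part 8, heavy degrees (memsplit, helper160) -/

set_option autoImplicit false
set_option maxRecDepth 100000
set_option Elab.async false

namespace Cfsg.Agent.H606.OreM.Num

theorem hv_1663741296_412599 : allB (testJ [(47, [0, 40]), (31, [16]), (23, [1]), (19, [11]), (17, [16, 0, 15])] 1 1663741296 24766 26006 1) 416197 13 412599 = true := by decide +kernel

theorem hv_831870648_194011 : allB (testJ [(47, [0, 20]), (31, [8, 0, 16]), (23, [12, 0, 1]), (19, [15, 1, 10]), (17, [8, 10, 6])] 1 831870648 12382 13003 1) 208099 13 194011 = true := by decide +kernel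

theorem hv_831870648_202203 : allB (testJ [(47, [0, 20]), (31, [8, 0, 16]), (23, [12, 0, 1]), (19, [15, 1, 10]), (17, [8, 10, 6])] 1 831870648 12382 13003 1) 208099 13 202203 = true := by decide +kernel

theorem hv_3798907398_68153 : allB (testJ [(47, [0, 40]), (31, [15]), (23, [22, 21]), (19, [8]), (17, [16, 0, 15])] 13 3798907398 56551 59381 13) 73102 21 68153 = true := by decide +kernel

theorem hv_1248091250_58216 : allB (testJ [(47, [0, 40]), (31, [16]), (23, [11, 0, 22]), (19, [0, 4, 9, 14]), (17, [11, 13, 9])] 1 1248091250 18578 19509 5) 62444 21 58216 = true := by decide +kernel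

theorem hv_1614530841_53792 : allB (testJ [(47, [0, 7]), (31, [8, 0, 16]), (23, [1]), (19, [18]), (17, [10, 11, 9])] 7 1614530841 24033 25237 7) 57699 21 53792 = true := by decide +kernel

end Cfsg.Agent.H606.OreM.Num
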