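import Cfsg.Agent.H606.OreM.Split

/-! # The certificate of the sieve for the Monster, part 8, heavy degrees (memsplit, helper160) -/

set_option autoImplicit false
set_option maxRecDepth 100000
set_option Elab.async false

namespace Cfsg.Agent.H606.OreM.Num

theorem hv_1899453699_34076 : allB (testJ [(47, [0, 20]), (31, [23, 0, 15]), (23, [11, 22]), (19, [4, 18, 9]), (17, [8, 10, 6])] 13 1899453699 28275 29691 13) 36551 21 34076 = true := by decide +kernel

theorem hv_624045625_29108 : allB (testJ [(47, [0, 20]), (31, [8, 0, 16]), (23, [0, 11]), (19, [1]), (17, [15, 13, 12, 16])] 1 624045625 9288 9755 5) 31222 21 29108 = true := by decide +kernel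

theorem hv_1557501440_19118 : allB (testJ [(47, [0, 27]), (31, [15]), (23, [22]), (19, [0]), (17, [4, 0, 8, 6, 2])] 1 1557501440 23184 24346 19) 20507 21 19118 = true := by decide +kernel

end Cfsg.Agent.H606.OreM.Num
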