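import Cfsg.Agent.H606.OreM.CertP8H1
import Cfsg.Agent.H606.OreM.CertP8H2
import Cfsg.Agent.H606.OreM.CertP8H3
import Cfsg.Agent.H606.OreM.CertP8H4
import Cfsg.Agent.H606.OreM.CertP8H5

/-! # The certificate of the sieve for the Monster, part 8A (memsplit, helper160) -/

set_option autoImplicit false
set_option maxRecDepth 100000
set_option Elab.async false

namespace Cfsg.Agent.H606.OreM.Num

theorem hv_4359513600 : cert 4962352590 6527402253 tabs 4359513600 = true :=
  cert_of (testD_of (Ts := [(47, [0, 27]), (31, [23, 0, 15]), (23, [12, 1]), (19, [9]), (17, [9, 7, 11])]) (uA := 1) (uB := 1) (ylo := 64897) (yn := 68144) (lo := 1016741) (n := 1090564)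
    (by decide +kernel) (by norm_num [cA]) (by norm_num [cB]) (by norm_num) (by norm_num) (by norm_num) (by norm_num) rfl rfl
    (allB_half (lo' := 2065317) (by norm_num) (allB_half (lo' := 1541029) (by norm_num) (allB_half (lo' := 1278885) (by norm_num) (allB_half (lo' := 1147813) (by norm_num) (allB_half (lo' := 1082277) (by norm_num) (allB_half (lo' := 1049509) (by norm_num) (allB_half (lo' := 1033125) (by norm_num) (allB_half (lo' := 1024933) (by norm_num) hv_4359513600_1016741 hv_4359513600_1024933) (allB_half (lo' := 1041317) (by norm_num) hv_4359513600_1033125 hv_4359513600_1041317)) (allB_half (lo' := 1065893) (by norm_num) (allB_half (lo' := 1057701) (by norm_num) hv_4359513600_1049509 hv_4359513600_1057701) (allB_half (lo' := 1074085) (by norm_num) hv_4359513600_1065893 hv_4359513600_1074085))) (allB_half (lo' := 1115045) (by norm_num) (allB_half (lo' := 1098661) (by norm_num) (allB_half (lo' := 1090469) (by norm_num) hv_4359513600_1082277 hv_4359513600_1090469) (allB_big rfl)) (allB_big rfl))) (allB_big rfl)) (allB_big rfl)) (allB_big rfl)) (allB_big rfl)))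

theorem hv_1663741296 : cert 4962352590 6527402253 tabs 1663741296 = true :=
  cert_of (testD_of (Ts := [(47, [0, 40]), (31, [16]), (23, [1]), (19, [11]), (17, [16, 0, 15])]) (uA := 1) (uB := 1) (ylo := 24766) (yn := 26006) (lo := 388023) (n := 416197)
    (by decide +kernel) (by norm_num [cA]) (by norm_num [cB]) (by norm_num) (by norm_num) (by norm_num) (by norm_num) rfl rfl
    (allB_half (lo' := 1436599) (by norm_num) (allB_half (lo' := 912311) (by norm_num) (allB_half (lo' := 650167) (by norm_num) (allB_half (lo' := 519095) (by norm_num) (allB_half (lo' := 453559) (by norm_num) (allB_half (lo' := 420791) (by norm_num) (allB_half (lo' := 404407) (by norm_num) (allB_half (lo' := 396215) (by norm_num) hv_1663741296_388023 hv_1663741296_396215) (allB_half (lo' := 412599) (by norm_num) hv_1663741296_404407 hv_1663741296_412599)) (allB_big rfl)) (allB_big rfl)) (allB_big rfl)) (allB_big rfl)) (allB_big rfl)) (allB_big rfl)))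

theorem hv_831870648 : cert 4962352590 6527402253 tabs 831870648 = true :=
  cert_of (testD_of (Ts := [(47, [0, 20]), (31, [8, 0, 16]), (23, [12, 0, 1]), (19, [15, 1, 10]), (17, [8, 10, 6])]) (uA := 1) (uB := 1) (ylo := 12382) (yn := 13003) (lo := 194011) (n := 208099)
    (by decide +kernel) (by norm_num [cA]) (by norm_num [cB]) (by norm_num) (by norm_num) (by norm_num) (by norm_num) rfl rfl
    (allB_half (lo' := 1242587) (by norm_num) (allB_half (lo' := 718299) (by norm_num) (allB_half (lo' := 456155) (by norm_num) (allB_half (lo' := 325083) (by norm_num) (allB_half (lo' := 259547) (by norm_num) (allB_half (lo' := 226779) (by norm_num) (allB_half (lo' := 210395) (by norm_num) (allB_half (lo' := 202203) (by norm_num) hv_831870648_194011 hv_831870648_202203) (allB_big rfl)) (allB_big rfl)) (allB_big rfl)) (allB_big rfl)) (allB_big rfl)) (allB_big rfl)) (allB_big rfl)))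

theorem hv_3798907398 : cert 4962352590 6527402253 tabs 3798907398 = true :=
  cert_of (testD_of (Ts := [(47, [0, 40]), (31, [15]), (23, [22, 21]), (19, [8]), (17, [16, 0, 15])]) (uA := 13) (uB := 13) (ylo := 56551) (yn := 59381) (lo := 68153) (n := 73102)
    (by decide +kernel) (by norm_num [cA]) (by norm_num [cB]) (by norm_num) (by norm_num) (by norm_num) (by norm_num) rfl rfl
    hv_3798907398_68153)

theorem hv_1248091250 : cert 4962352590 6527402253 tabs 1248091250 = true :=
  cert_of (testD_of (Ts := [(47, [0, 40]), (31, [16]), (23, [11, 0, 22]), (19, [0, 4, 9, 14]), (17, [11, 13, 9])]) (uA := 5) (uB := 1) (ylo := 18578) (yn := 19509) (lo := 58216) (n := 62444)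
    (by decide +kernel) (by norm_num [cA]) (by norm_num [cB]) (by norm_num) (by norm_num) (by norm_num) (by norm_num) rfl rfl
    hv_1248091250_58216)

theorem hv_1614530841 : cert 4962352590 6527402253 tabs 1614530841 = true :=
  cert_of (testD_of (Ts := [(47, [0, 7]), (31, [8, 0, 16]), (23, [1]), (19, [18]), (17, [10, 11, 9])]) (uA := 7) (uB := 7) (ylo := 24033) (yn := 25237) (lo := 53792) (n := 57699)
    (by decide +kernel) (by norm_num [cA]) (by norm_num [cB]) (by norm_num) (by norm_num) (by norm_num) (by norm_num) rfl rfl
    hv_1614530841_53792)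

theorem hv_1899453699 : cert 4962352590 6527402253 tabs 1899453699 = true :=
  cert_of (testD_of (Ts := [(47, [0, 20]), (31, [23, 0, 15]), (23, [11, 22]), (19, [4, 18, 9]), (17, [8, 10, 6])]) (uA := 13) (uB := 13) (ylo := 28275) (yn := 29691) (lo := 34076) (n := 36551)
    (by decide +kernel) (by norm_num [cA]) (by norm_num [cB]) (by norm_num) (by norm_num) (by norm_num) (by norm_num) rfl rfl
    hv_1899453699_34076)

theorem hv_624045625 : cert 4962352590 6527402253 tabs 624045625 = true :=
  cert_of (testD_of (Ts := [(47, [0, 20]), (31, [8, 0, 16]), (23, [0, 11]), (19, [1]), (17, [15, 13, 12, 16])]) (uA := 5) (uB := 1) (ylo := 9288) (yn := 9755) (lo := 29108) (n := 31222)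
    (by decide +kernel) (by norm_num [cA]) (by norm_num [cB]) (by norm_num) (by norm_num) (by norm_num) (by norm_num) rfl rfl
    hv_624045625_29108)

theorem hv_1557501440 : cert 4962352590 6527402253 tabs 1557501440 = true :=
  cert_of (testD_of (Ts := [(47, [0, 27]), (31, [15]), (23, [22]), (19, [0]), (17, [4, 0, 8, 6, 2])]) (uA := 19) (uB := 1) (ylo := 23184) (yn := 24346) (lo := 19118) (n := 20507)
    (by decide +kernel) (by norm_num [cA]) (by norm_num [cB]) (by norm_num) (by norm_num) (by norm_num) (by norm_num) rfl rfl
    hv_1557501440_19118)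

theorem cb_2911_light : chkL 6527402252 lstB (exc [4359513600, 1663741296, 831870648, 3798907398, 1248091250, 1614530841, 1899453699, 624045625, 1557501440] (cert 4962352590 6527402253 tabs)) 2911 = true := by
  decide +kernel

theorem cb_2911 : tst lstB 2911 = true := by
  refine chkL_mono (of_exc (l := [4359513600, 1663741296, 831870648, 3798907398, 1248091250, 1614530841, 1899453699, 624045625, 1557501440]) ?_) cb_2911_light
  simp only [List.forall_mem_cons]
  exact ⟨hv_4359513600, hv_1663741296, hv_831870648, hv_3798907398, hv_1248091250, hv_1614530841, hv_1899453699, hv_624045625, hv_1557501440, fun _ h => absurd h List.not_mem_nil⟩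

end Cfsg.Agent.H606.OreM.Num
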