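import Cfsg.Agent.H606.OreM.Split

/-! # The certificate of the sieve for the Monster, part 8, heavy degrees (memsplit, helper160) -/

set_option autoImplicit false
set_option maxRecDepth 100000
set_option Elab.async false

namespace Cfsg.Agent.H606.OreM.Num

theorem hv_4359513600_1016741 : allB (testJ [(47, [0, 27]), (31, [23, 0, 15]), (23, [12, 1]), (19, [9]), (17, [9, 7, 11])] 1 4359513600 64897 68144 1) 1090564 13 1016741 = true := by decide +kernel

theorem hv_4359513600_1024933 : allB (testJ [(47, [0, 27]), (31, [23, 0, 15]), (23, [12, 1]), (19, [9]), (17, [9, 7, 11])] 1 4359513600 64897 68144 1) 1090564 13 1024933 = true := by decide +kernel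

theorem hv_4359513600_1033125 : allB (testJ [(47, [0, 27]), (31, [23, 0, 15]), (23, [12, 1]), (19, [9]), (17, [9, 7, 11])] 1 4359513600 64897 68144 1) 1090564 13 1033125 = true := by decide +kernel

theorem hv_4359513600_1041317 : allB (testJ [(47, [0, 27]), (31, [23, 0, 15]), (23, [12, 1]), (19, [9]), (17, [9, 7, 11])] 1 4359513600 64897 68144 1) 1090564 13 1041317 = true := by decide +kernel

end Cfsg.Agent.H606.OreM.Num
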