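import Cfsg.Agent.H606.OreM.Tabs

/-!
# Cutting the certificate of the sieve for the Monster into pieces (helper606)
-/

set_option autoImplicit false

namespace Cfsg.Agent.H606.OreM.Num

/-- the primes from 31 on -/
def lstA : List (ℕ × ℕ) := [(31, 1), (29, 1), (23, 1), (19, 1), (17, 1), (13, 3), (11, 2), (7, 6), (5, 9), (3, 20), (2, 46)]

/-- the primes from 19 on -/
def lstB : List (ℕ × ℕ) := [(19, 1), (17, 1), (13, 3), (11, 2), (7, 6), (5, 9), (3, 20), (2, 46)]

/-- the primes from 29 on -/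
def lstD : List (ℕ × ℕ) := [(29, 1), (23, 1), (19, 1), (17, 1), (13, 3), (11, 2), (7, 6), (5, 9), (3, 20), (2, 46)]

/-- the primes from 23 on -/
def lstE : List (ℕ × ℕ) := [(23, 1), (19, 1), (17, 1), (13, 3), (11, 2), (7, 6), (5, 9), (3, 20), (2, 46)]

/-- the test -/
def tst (l : List (ℕ × ℕ)) (x : ℕ) : Bool := chkL 6527402252 l (cert 4962352590 6527402253 tabs) x

theorem tst_cons {p : ℕ} {l : List (ℕ × ℕ)} {x y : ℕ} (hy : x * p = y) (h0 : tst l x = true) (h1 : tst l y = true) :
    tst ((p, 1) :: l) x = true := by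
  subst hy
  show pwL 6527402252 p 1 (tst l) x = true
  rw [pwL_succ, h0, Bool.true_and, pwL_zero, h1, Bool.or_true]

end Cfsg.Agent.H606.OreM.Num
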