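import Cfsg.Agent.H606.OreM.Lst

/-!
# The degrees of the Monster prime to 59 and 41: the test (helper606)
-/

set_option autoImplicit false

namespace Cfsg.Agent.H606.OreM.Num

/-- The test of a degree prime to `59` and `41`. -/
def certG (T : List (ℕ × List (List ℕ × ℕ))) (d : ℕ) : Bool :=
  Bool.rec (motive := fun _ => Bool) true
    (!(mem [1, 40] (d % 41)) || !(mem [0, 1, 2, 27, 28] (d % 29)) || !(mem [0, 1, 35, 36, 70] (d % 71)) ||
      Nat.blt d 196883 || testD cA cB T d)
    (bit 288230377762324482 (d % 59))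

/-- the test -/
def tg (l : List (ℕ × ℕ)) (x : ℕ) : Bool := chkL 16134478424 l (certG tabs) x

theorem tg_cons {p : ℕ} {l : List (ℕ × ℕ)} {x y : ℕ} (hy : x * p = y) (h0 : tg l x = true) (h1 : tg l y = true) :
    tg ((p, 1) :: l) x = true := by
  subst hy
  show pwL 16134478424 p 1 (tg l) x = true
  rw [pwL_succ, h0, Bool.true_and, pwL_zero, h1, Bool.or_true]

end Cfsg.Agent.H606.OreM.Num
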