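import Mathlib

/-!
# The arithmetic of the sieve for the Monster (helper606): the functions of the certificate
-/

set_option autoImplicit false

namespace Cfsg.Agent.H606.OreM.Num

/-! ### Divisors below a bound -/

/-- `f` holds at `x q^i`, `i ≤ k`, as long as the value is at most `L` -/
def pwL (L q : ℕ) (k : ℕ) (f : ℕ → Bool) : ℕ → Bool :=
  Nat.rec (motive := fun _ => ℕ → Bool) f
    (fun _ ih x => Bool.rec (motive := fun _ => Bool) false
      (Bool.rec (motive := fun _ => Bool) (ih (Nat.mul x q)) true (Nat.blt L (Nat.mul x q))) (f x)) k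

theorem pwL_zero {L q : ℕ} {f : ℕ → Bool} {x : ℕ} : pwL L q 0 f x = f x := rfl

theorem pwL_succ {L q k : ℕ} {f : ℕ → Bool} {x : ℕ} :
    pwL L q (k + 1) f x = (f x && (Nat.blt L (x * q) || pwL L q k f (x * q))) := by
  show Bool.rec (motive := fun _ => Bool) false
      (Bool.rec (motive := fun _ => Bool) (pwL L q k f (x * q)) true (Nat.blt L (x * q))) (f x) = _
  cases f x <;> cases Nat.blt L (x * q) <;> rfl

theorem pwL_spec {L q : ℕ} (hq : 0 < q) {f : ℕ → Bool} : ∀ {k x : ℕ}, pwL L q k f x = true →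
    ∀ i ≤ k, x * q ^ i ≤ L → f (x * q ^ i) = true
  | 0, x, h, i, hi, _ => by
    obtain rfl : i = 0 := by omega
    rw [pow_zero, mul_one]
    exact h
  | k + 1, x, h, i, hi, hL => by
    rw [pwL_succ, Bool.and_eq_true] at h
    rcases Nat.eq_zero_or_pos i with h0 | h0
    · rw [h0, pow_zero, mul_one]
      exact h.1
    · obtain ⟨j, rfl⟩ : ∃ j, i = j + 1 := ⟨i - 1, by omega⟩
      have e : x * q ^ (j + 1) = x * q * q ^ j := by rw [pow_succ']; ring
      rw [e] at hL ⊢
      have h1 : x * q ≤ L := le_trans (Nat.le_mul_of_pos_right _ (Nat.pow_pos hq)) hL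
      rcases Bool.or_eq_true_iff.1 h.2 with h2 | h2
      · rw [Nat.blt_eq] at h2
        omega
      · exact pwL_spec hq h2 j (by omega) hL

/-- `f` holds at all `x d ≤ L`, `d` a divisor of the product -/
def chkL (L : ℕ) (l : List (ℕ × ℕ)) (f : ℕ → Bool) : ℕ → Bool :=
  List.rec (motive := fun _ => ℕ → Bool) f (fun a _ ih => pwL L a.1 a.2 ih) l

theorem chkL_spec {L : ℕ} {f : ℕ → Bool} : ∀ {l : List (ℕ × ℕ)} {x : ℕ}, chkL L l f x = true →
    (∀ a ∈ l, a.1.Prime) → ∀ d, d ∣ (l.map fun a => a.1 ^ a.2).prod → 0 < d → x * d ≤ L → f (x * d) = true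
  | [], x, h, _, d, hd, _, _ => by
    have : d = 1 := Nat.dvd_one.1 (by simpa using hd)
    rw [this, mul_one]
    exact h
  | a :: l, x, h, hp, d, hd, h0, hL => by
    rw [List.map_cons, List.prod_cons] at hd
    obtain ⟨y, z, hy, hz, rfl⟩ := (Nat.dvd_mul).1 hd
    obtain ⟨i, hi, rfl⟩ := (Nat.dvd_prime_pow (hp a List.mem_cons_self)).1 hy
    have hz0 : 0 < z := Nat.pos_of_mul_pos_left h0
    have e : x * (a.1 ^ i * z) = x * a.1 ^ i * z := by ring
    rw [e] at hL ⊢
    have h1 := pwL_spec (hp a List.mem_cons_self).pos (h : pwL L a.1 a.2 (chkL L l f) x = true) i hi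
      (le_trans (Nat.le_mul_of_pos_right _ hz0) hL)
    exact chkL_spec h1 (fun b hb => hp b (List.mem_cons_of_mem _ hb)) z hz hz0 hL

/-! ### Intervals -/

/-- `f` holds at all `j`, `lo ≤ j < lo + 2^k`, `j < n` -/
def allB (f : ℕ → Bool) (n : ℕ) : ℕ → ℕ → Bool
  | 0, lo => Nat.ble n lo || f lo
  | k + 1, lo => Nat.ble n lo || (allB f n k lo && allB f n k (lo + 2 ^ k))

theorem allB_spec {f : ℕ → Bool} {n : ℕ} : ∀ {k lo : ℕ}, allB f n k lo = true →
    ∀ j, lo ≤ j → j < lo + 2 ^ k → j < n → f j = true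
  | 0, lo, h, j, h1, h2, h3 => by
    obtain rfl : j = lo := by rw [pow_zero] at h2; omega
    rcases Bool.or_eq_true_iff.1 h with h4 | h4
    · rw [Nat.ble_eq] at h4
      omega
    · exact h4
  | k + 1, lo, h, j, h1, h2, h3 => by
    rcases Bool.or_eq_true_iff.1 h with h4 | h4
    · rw [Nat.ble_eq] at h4
      omega
    · rw [Bool.and_eq_true] at h4
      rcases Nat.lt_or_ge j (lo + 2 ^ k) with h5 | h5
      · exact allB_spec h4.1 j h1 h5 h3
      · exact allB_spec h4.2 j h5 (by rw [pow_succ] at h2; omega) h3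

/-! ### The residues of `X` -/

/-- membership in a list of residues -/
def mem (l : List ℕ) (x : ℕ) : Bool := l.any fun a => Nat.beq x a

theorem mem_iff {l : List ℕ} {x : ℕ} : mem l x = true ↔ x ∈ l := by
  unfold mem
  rw [List.any_eq_true]
  constructor
  · rintro ⟨a, ha, h⟩
    rw [Nat.beq_eq] at h
    rwa [h]
  · intro h
    exact ⟨x, h, by rw [Nat.beq_eq]⟩

/-- the possible residues of `X` -/
def xres (r : ℕ) (T : List (List ℕ × ℕ)) (d : ℕ) : List ℕ :=
  bif Nat.beq (d % r) 0 then [0] else (T.filter fun a => mem a.1 (d % r)).map fun a => a.2 * (d % r) % r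

/-- the property -/
def OkX (r : ℕ) (T : List (List ℕ × ℕ)) (d X : ℕ) : Prop :=
  (r ∣ d ∧ r ∣ X) ∨ ∃ a ∈ T, d % r ∈ a.1 ∧ X % r = a.2 * (d % r) % r

theorem mem_xres {r : ℕ} {T : List (List ℕ × ℕ)} {d X : ℕ} (hT : ∀ a ∈ T, 0 ∉ a.1) (h : OkX r T d X) :
    X % r ∈ xres r T d := by
  unfold xres
  rcases h with ⟨h1, h2⟩ | ⟨a, ha, h1, h2⟩
  · rw [Nat.mod_eq_zero_of_dvd h1, Nat.mod_eq_zero_of_dvd h2]
    simp
  · have h0 : d % r ≠ 0 := by
      intro h
      rw [h] at h1
      exact hT a ha h1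
    have h3 : Nat.beq (d % r) 0 = false := by
      rw [Bool.eq_false_iff]
      intro h
      exact h0 (Nat.eq_of_beq_eq_true h)
    rw [h3, cond_false, List.mem_map]
    exact ⟨a, List.mem_filter.2 ⟨ha, mem_iff.2 h1⟩, h2.symm⟩

/-! ### The test -/

/-- the conditions on `Y` fail -/
def testY (uB d X Y : ℕ) : Bool :=
  !(Nat.ble (47 * Y) (3 * X) && Nat.beq ((3 * X - 47 * Y) % 256) 0 && Nat.beq (Y % uB) 0 &&
    Nat.ble (253 * ((3 * X - 47 * Y) / 256)) Y &&
    (bif Nat.ble (256 * ((3 * X - 47 * Y) / 256)) Y then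
      Nat.ble (3 * 16775168 * ((3 * X - 47 * Y) / 256) + 196584 * (Y - 256 * ((3 * X - 47 * Y) / 256))) (3 * d)
    else Nat.ble (3 * 16775168 * ((3 * X - 47 * Y) / 256))
      (3 * d + 192489 * (256 * ((3 * X - 47 * Y) / 256) - Y))))

/-- the conditions on `X` fail -/
def testX (Ts : List (ℕ × List ℕ)) (uB d ylo yn X : ℕ) : Bool :=
  !(Ts.all fun a => mem a.2 (X % a.1)) || allB (testY uB d X) yn 20 ylo

/-- The test for the degree `d`; `A`, `B` the numbers `4096 |2A|`, `65536 |2B|`; `T` the tables. -/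
def testD (A B : ℕ) (T : List (ℕ × List (List ℕ × ℕ))) (d : ℕ) : Bool :=
  bif T.any fun a => (xres a.1 a.2 d).isEmpty then true
  else
    Nat.ble ((42 * d + 257) / 2686976 + 1) 1048576 && Nat.ble (12147 * (42 * d + 257) / 2039414784 / (d / Nat.gcd d A) + 1) 2097152 &&
    allB (fun j => testX (T.map fun a => (a.1, xres a.1 a.2 d)) (d / Nat.gcd d B) d (40 * d / 2686976 - 1)
        ((42 * d + 257) / 2686976 + 1) (d / Nat.gcd d A * j))
      (12147 * (42 * d + 257) / 2039414784 / (d / Nat.gcd d A) + 1) 21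
      ((47 * (40 * d) / 8060928 - 1) / (d / Nat.gcd d A))

/-- the conditions -/
structure Cand (A B : ℕ) (T : List (ℕ × List (List ℕ × ℕ))) (d b c e : ℕ) : Prop where
  pos : 0 < d
  cost : 196584 * b + 16775168 * c + 16582679 * e ≤ d
  dA : d ∣ A * (47 * b + 4096 * c + 4049 * e)
  dB : d ∣ B * (3 * b + 256 * c + 253 * e)
  ok : ∀ a ∈ T, OkX a.1 a.2 d (47 * b + 4096 * c + 4049 * e)
  hi : 2686976 * (3 * b + 256 * c + 253 * e) ≤ 42 * d + 257
  lo : 40 * d ≤ 2686976 * (3 * b + 256 * c + 253 * e) + 257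

theorem dvd_red {d A X : ℕ} (hd : 0 < d) (h : d ∣ A * X) : d / Nat.gcd d A ∣ X := by
  have hg : 0 < Nat.gcd d A := Nat.gcd_pos_of_pos_left _ hd
  have h1 : Nat.Coprime (d / Nat.gcd d A) (A / Nat.gcd d A) := Nat.coprime_div_gcd_div_gcd hg
  apply h1.dvd_of_dvd_mul_left
  obtain ⟨k, hk⟩ := h
  refine ⟨k, ?_⟩
  have h2 : d = Nat.gcd d A * (d / Nat.gcd d A) := (Nat.mul_div_cancel' (Nat.gcd_dvd_left d A)).symm
  have h3 : A = Nat.gcd d A * (A / Nat.gcd d A) := (Nat.mul_div_cancel' (Nat.gcd_dvd_right d A)).symm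
  apply Nat.eq_of_mul_eq_mul_left hg
  calc Nat.gcd d A * (A / Nat.gcd d A * X) = (Nat.gcd d A * (A / Nat.gcd d A)) * X := by ring
    _ = A * X := by rw [← h3]
    _ = d * k := hk
    _ = (Nat.gcd d A * (d / Nat.gcd d A)) * k := by rw [← h2]
    _ = _ := by ring

theorem testY_false {uB d b c e : ℕ} (hcost : 196584 * b + 16775168 * c + 16582679 * e ≤ d)
    (hB : uB ∣ 3 * b + 256 * c + 253 * e) :
    testY uB d (47 * b + 4096 * c + 4049 * e) (3 * b + 256 * c + 253 * e) = false := by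
  have e1 : 3 * (47 * b + 4096 * c + 4049 * e) - 47 * (3 * b + 256 * c + 253 * e) = (c + e) * 256 := by omega
  have e2 : (c + e) * 256 / 256 = c + e := Nat.mul_div_cancel _ (by norm_num)
  unfold testY
  rw [e1, e2]
  rw [Bool.not_eq_false']
  simp only [Bool.and_eq_true, Nat.ble_eq, Nat.beq_eq]
  refine ⟨⟨⟨⟨by omega, Nat.mul_mod_left _ _⟩, Nat.mod_eq_zero_of_dvd hB⟩, by omega⟩, ?_⟩
  by_cases h : 256 * (c + e) ≤ 3 * b + 256 * c + 253 * e
  · have h1 : Nat.ble (256 * (c + e)) (3 * b + 256 * c + 253 * e) = true := by rw [Nat.ble_eq]; exact h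
    rw [h1, cond_true, Nat.ble_eq]
    omega
  · have h1 : Nat.ble (256 * (c + e)) (3 * b + 256 * c + 253 * e) = false := by
      rw [Bool.eq_false_iff]
      intro h2
      rw [Nat.ble_eq] at h2
      exact h h2
    rw [h1, cond_false, Nat.ble_eq]
    omega

/-- **The certificate.** -/
theorem testD_false {A B : ℕ} {T : List (ℕ × List (List ℕ × ℕ))} (hT : ∀ x ∈ T, ∀ a ∈ x.2, 0 ∉ a.1)
    {d b c e : ℕ} (h : Cand A B T d b c e) : testD A B T d = false := by
  rw [Bool.eq_false_iff]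
  intro ht
  have hmem : ∀ a ∈ T, (47 * b + 4096 * c + 4049 * e) % a.1 ∈ xres a.1 a.2 d := fun a ha =>
    mem_xres (hT a ha) (h.ok a ha)
  have h1 : (T.any fun a => (xres a.1 a.2 d).isEmpty) = false := by
    rw [Bool.eq_false_iff]
    intro h1
    rw [List.any_eq_true] at h1
    obtain ⟨a, ha, h2⟩ := h1
    rw [List.isEmpty_iff] at h2
    have h3 := hmem a ha
    rw [h2] at h3
    exact absurd h3 (by simp)
  unfold testD at ht
  rw [h1, cond_false] at ht
  simp only [Bool.and_eq_true, Nat.ble_eq] at ht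
  obtain ⟨⟨hy20, hx21⟩, hall⟩ := ht
  have hA := dvd_red h.pos h.dA
  have hB := dvd_red h.pos h.dB
  set uA := d / Nat.gcd d A with huA
  set uB := d / Nat.gcd d B with huB
  have huA0 : 0 < uA := Nat.div_pos (Nat.gcd_le_left _ h.pos) (Nat.gcd_pos_of_pos_left _ h.pos)
  set X := 47 * b + 4096 * c + 4049 * e with hX
  set Y := 3 * b + 256 * c + 253 * e with hY
  obtain ⟨j, hj⟩ := hA
  have hlo := h.lo
  have hhi := h.hi
  have hXY1 : 47 * Y ≤ 3 * X := by omega
  have hXY2 : 759 * X ≤ 12147 * Y := by omega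
  have hXhi : X ≤ 12147 * (42 * d + 257) / 2039414784 := by
    rw [Nat.le_div_iff_mul_le (by norm_num)]
    omega
  have hXlo : (47 * (40 * d) / 8060928 - 1) ≤ X := by
    have h2 : 47 * (40 * d) ≤ 8060928 * X + 47 * 257 := by omega
    omega
  have hj1 : j < 12147 * (42 * d + 257) / 2039414784 / uA + 1 := by
    rw [Nat.lt_succ_iff, Nat.le_div_iff_mul_le huA0, mul_comm, ← hj]
    exact hXhi
  have hj2 : (47 * (40 * d) / 8060928 - 1) / uA ≤ j := by
    have h2 : (47 * (40 * d) / 8060928 - 1) / uA ≤ X / uA := Nat.div_le_div_right hXlo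
    rw [hj, Nat.mul_div_cancel_left _ huA0] at h2
    exact h2
  have h3 := allB_spec hall j hj2 (lt_of_lt_of_le (lt_of_lt_of_le hj1 hx21) (le_trans (by norm_num) (Nat.le_add_left _ _))) hj1
  beta_reduce at h3
  rw [← hj] at h3
  unfold testX at h3
  rcases Bool.or_eq_true_iff.1 h3 with h4 | h4
  · rw [Bool.not_eq_true', Bool.eq_false_iff] at h4
    apply h4
    rw [List.all_eq_true]
    intro a ha
    rw [List.mem_map] at ha
    obtain ⟨a', ha', rfl⟩ := ha
    exact mem_iff.2 (hmem a' ha')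
  · have h5 := allB_spec h4 Y (by omega) (by norm_num at hy20 ⊢; omega) (by
      rw [Nat.lt_succ_iff, Nat.le_div_iff_mul_le (by norm_num)]
      omega)
    rw [testY_false h.cost hB] at h5
    exact absurd h5 (by decide)

end Cfsg.Agent.H606.OreM.Num
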