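import Cfsg.Agent.H606.OreM.Tabs

/-!
# The certificate for the small degrees of the Monster (helper606)
-/

set_option autoImplicit false
set_option maxRecDepth 100000
set_option Elab.async false

namespace Cfsg.Agent.H606.OreM.Num

/-- The prime factors of the order of the Monster. -/
def lstF : List (ℕ × ℕ) := [(71, 1), (59, 1), (47, 1), (41, 1), (31, 1), (29, 1), (23, 1), (19, 1), (17, 1), (13, 3),
  (11, 2), (7, 6), (5, 9), (3, 20), (2, 46)]

/-- The prime factors of the order of the Monster from 41 on. -/
def lstF4 : List (ℕ × ℕ) := [(31, 1), (29, 1), (23, 1), (19, 1), (17, 1), (13, 3),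
  (11, 2), (7, 6), (5, 9), (3, 20), (2, 46)]

/-- The test of a small degree. -/
def certS (T : List (ℕ × List (List ℕ × ℕ))) (d : ℕ) : Bool :=
  Bool.rec (motive := fun _ => Bool) true
    (!(mem [0, 1, 35, 36, 70] (d % 71)) || !(mem [0, 1, 40] (d % 41)) || Nat.ble d 196883 || Nat.beq d 21296876 ||
      testD cA cB T d)
    (bit 288230377762324483 (d % 59))

theorem chkL_cons1 {L p : ℕ} {l : List (ℕ × ℕ)} {f : ℕ → Bool} {x y : ℕ} (hy : x * p = y) (h0 : chkL L l f x = true)
    (h1 : chkL L l f y = true) : chkL L ((p, 1) :: l) f x = true := by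
  subst hy
  show pwL L p 1 (chkL L l f) x = true
  rw [pwL_succ, h0, Bool.true_and, pwL_zero, h1, Bool.or_true]

theorem cs_1 : chkL 99999999 lstF4 (certS tabs) 1 = true := by decide +kernel

theorem cs_41 : chkL 99999999 lstF4 (certS tabs) 41 = true := by decide +kernel

theorem cs_47 : chkL 99999999 lstF4 (certS tabs) 47 = true := by decide +kernel

theorem cs_1927 : chkL 99999999 lstF4 (certS tabs) 1927 = true := by decide +kernel

theorem cs_59 : chkL 99999999 lstF4 (certS tabs) 59 = true := by decide +kernel

theorem cs_2419 : chkL 99999999 lstF4 (certS tabs) 2419 = true := by decide +kernel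

theorem cs_2773 : chkL 99999999 lstF4 (certS tabs) 2773 = true := by decide +kernel

theorem cs_113693 : chkL 99999999 lstF4 (certS tabs) 113693 = true := by decide +kernel

theorem cs_71 : chkL 99999999 lstF4 (certS tabs) 71 = true := by decide +kernel

theorem cs_2911 : chkL 99999999 lstF4 (certS tabs) 2911 = true := by decide +kernel

theorem cs_3337 : chkL 99999999 lstF4 (certS tabs) 3337 = true := by decide +kernel

theorem cs_136817 : chkL 99999999 lstF4 (certS tabs) 136817 = true := by decide +kernel

theorem cs_4189 : chkL 99999999 lstF4 (certS tabs) 4189 = true := by decide +kernel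

theorem cs_171749 : chkL 99999999 lstF4 (certS tabs) 171749 = true := by decide +kernel

theorem cs_196883 : chkL 99999999 lstF4 (certS tabs) 196883 = true := by decide +kernel

theorem cs_8072203 : chkL 99999999 lstF4 (certS tabs) 8072203 = true := by decide +kernel

theorem certS_all : chkL 99999999 lstF (certS tabs) 1 = true :=
  chkL_cons1 (p := 71) rfl (chkL_cons1 (p := 59) rfl (chkL_cons1 (p := 47) rfl (chkL_cons1 (p := 41) rfl cs_1 cs_41) (chkL_cons1 (p := 41) rfl cs_47 cs_1927)) (chkL_cons1 (p := 47) rfl (chkL_cons1 (p := 41) rfl cs_59 cs_2419) (chkL_cons1 (p := 41) rfl cs_2773 cs_113693))) (chkL_cons1 (p := 59) rfl (chkL_cons1 (p := 47) rfl (chkL_cons1 (p := 41) rfl cs_71 cs_2911) (chkL_cons1 (p := 41) rfl cs_3337 cs_136817)) (chkL_cons1 (p := 47) rfl (chkL_cons1 (p := 41) rfl cs_4189 cs_171749) (chkL_cons1 (p := 41) rfl cs_196883 cs_8072203)))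

end Cfsg.Agent.H606.OreM.Num
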