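import Cfsg.Agent.H606.OreM.Lst

/-!
# Cutting one test of the sieve for the Monster into pieces (memsplit, helper160)
-/

set_option autoImplicit false

namespace Cfsg.Agent.H606.OreM.Num

theorem pwL_mono {L q : ℕ} {f g : ℕ → Bool} (h : ∀ d, f d = true → g d = true) :
    ∀ {k x : ℕ}, pwL L q k f x = true → pwL L q k g x = true
  | 0, x, h1 => h x h1
  | k + 1, x, h1 => by
    rw [pwL_succ, Bool.and_eq_true] at h1
    rw [pwL_succ, Bool.and_eq_true]
    refine ⟨h x h1.1, ?_⟩
    rcases Bool.or_eq_true_iff.1 h1.2 with h2 | h2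
    · rw [h2, Bool.true_or]
    · rw [pwL_mono h h2, Bool.or_true]

theorem chkL_mono {L : ℕ} {f g : ℕ → Bool} (h : ∀ d, f d = true → g d = true) :
    ∀ {l : List (ℕ × ℕ)} {x : ℕ}, chkL L l f x = true → chkL L l g x = true
  | [], x, h1 => h x h1
  | a :: l, x, h1 => by
    have h2 : pwL L a.1 a.2 (chkL L l f) x = true := h1
    show pwL L a.1 a.2 (chkL L l g) x = true
    exact pwL_mono (fun d hd => chkL_mono h hd) h2

/-- the test with a list of exceptions -/
def exc (l : List ℕ) (f : ℕ → Bool) (d : ℕ) : Bool :=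
  Bool.rec (motive := fun _ => Bool) (f d) true (mem l d)

theorem of_exc {l : List ℕ} {f : ℕ → Bool} (h : ∀ d ∈ l, f d = true) (d : ℕ) (hd : exc l f d = true) :
    f d = true := by
  unfold exc at hd
  cases h1 : mem l d
  · rw [h1] at hd
    exact hd
  · exact h d (mem_iff.1 h1)

theorem allB_half {f : ℕ → Bool} {n k lo lo' : ℕ} (h : lo + 2 ^ k = lo') (h0 : allB f n k lo = true)
    (h1 : allB f n k lo' = true) : allB f n (k + 1) lo = true := by
  subst h
  show (Nat.ble n lo || (allB f n k lo && allB f n k (lo + 2 ^ k))) = true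
  rw [h0, h1, Bool.and_self, Bool.or_true]

theorem allB_big {f : ℕ → Bool} {n k lo : ℕ} (h : Nat.ble n lo = true) : allB f n k lo = true := by
  cases k with
  | zero =>
    show (Nat.ble n lo || f lo) = true
    rw [h, Bool.true_or]
  | succ k =>
    show (Nat.ble n lo || (allB f n k lo && allB f n k (lo + 2 ^ k))) = true
    rw [h, Bool.true_or]

/-- the test at `j` with evaluated data -/
def testJ (Ts : List (ℕ × List ℕ)) (uB d ylo yn uA j : ℕ) : Bool := testX Ts uB d ylo yn (uA * j)

theorem testD_of {A B : ℕ} {T : List (ℕ × List (List ℕ × ℕ))} {d : ℕ} {Ts : List (ℕ × List ℕ)}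
    {uA uB ylo yn lo n : ℕ} (hTs : (T.map fun a => (a.1, xres a.1 a.2 d)) = Ts)
    (huA : d / Nat.gcd d A = uA) (huB : d / Nat.gcd d B = uB) (hylo : 40 * d / 2686976 - 1 = ylo)
    (hyn : (42 * d + 257) / 2686976 + 1 = yn) (hn : 12147 * (42 * d + 257) / 2039414784 / uA + 1 = n)
    (hlo : (47 * (40 * d) / 8060928 - 1) / uA = lo) (hy : Nat.ble yn 1048576 = true)
    (hx : Nat.ble n 2097152 = true)
    (hall : allB (testJ Ts uB d ylo yn uA) n 21 lo = true) : testD A B T d = true := by
  subst huA huB hTs hylo hyn hn hlo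
  unfold testD
  cases T.any fun a => (xres a.1 a.2 d).isEmpty
  · rw [cond_false, hy, hx, Bool.true_and, Bool.true_and]
    exact hall
  · rw [cond_true]

theorem cert_of {dn dx : ℕ} {T : List (ℕ × List (List ℕ × ℕ))} {d : ℕ} (h : testD cA cB T d = true) :
    cert dn dx T d = true := by
  unfold cert
  rw [h, Bool.or_true]
  cases bit 288230377762324482 (d % 59) <;> rfl

end Cfsg.Agent.H606.OreM.Num
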